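import Mathlib
import Cfsg.Agent.U4F.Eq

/-!
# The action on `Q` for `q = 2`
-/

set_option autoImplicit false
set_option linter.unusedSectionVars false
set_option linter.unusedVariables false

namespace Cfsg.Agent.U4F

open Cfsg Cfsg.FusionSystem Cfsg.Agent.Fus Subgroup

variable {K : Type*} [Field K] [StarRing K] [UF K] {p : ℕ} [Fact p.Prime] [CharP K p]

theorem tq_two (p : ℕ) [Fact p.Prime] [CharP K p] (hq : qq K = 2) : (2 : K) = 0 := by
  obtain ⟨n, hn⟩ := qq_pow K p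
  have : p ∣ 2 := hq ▸ hn ▸ dvd_pow_self p n.succ_ne_zero
  exact_mod_cast (CharP.cast_eq_zero_iff K p 2).2 this

theorem tq_dis {Y : Subgroup (GA (K × K))} (h : YH p Y) (h2 : (2 : K) = 0) : Dis Y := by
  intro g hg hn b h0
  by_contra hb
  refine hn (h.mem_of_conj hg ?_)
  obtain ⟨e, ee⟩ : ∃ e, g (0, b) = (0, e) := ⟨_, Prod.ext h0 rfl⟩
  have hTe : ql1T g (0, e) = 0 := by
    rw [← ee, ql1T, ga_inv_apply]; exact map_zero g
  refine ql1K_le h e ⟨mul_mem (mul_mem hg (h.rr_mem (star_one _))) (inv_mem hg),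
    by rw [ql1_conj h.sp hg (star_one _), hTe]; simp, fun v hv => ?_⟩
  rw [← ee, ql1_BB_inv h.sp hg] at hv
  obtain ⟨t, ht, et⟩ := perp_line (z := (g⁻¹ v).1) hb hb (by linear_combination (b * star b) * h2) (by
    simp only [BB, star_zero, mul_zero, add_zero, sub_zero] at hv
    linear_combination hv)
  refine ⟨t, ht, ?_⟩
  rw [ql1_conj h.sp hg (star_one _), one_smul, ql1T, et, ← ee, ← h.sp.smul hg ht]
  simp

/-- `g W` is a graph. -/
theorem tq_graph {Y : Subgroup (GA (K × K))} (h : YH p Y) (hD : Dis Y) {g : GA (K × K)}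
    (hg : g ∈ Y) (hn : g ∉ normalizer (RR K : Set (GA (K × K)))) :
    ∃ α β, star α = α ∧ ((2 : K) = 0 → β = 0) ∧
      (∀ b, (g (0, b)).2 = α * (g (0, b)).1 + β * star (g (0, b)).1) ∧
      ∀ x, ∃ b, g (0, b) = (x, α * x + β * star x) := by
  have hadd : ∀ a b : K, g (0, a + b) = g (0, a) + g (0, b) := fun a b => by
    rw [← map_add]; simp
  have hsm : ∀ t a : K, star t = t → g (0, t * a) = t • g (0, a) := fun t a ht => by
    rw [← h.sp.smul hg ht]; simp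
  have inj : Function.Injective fun b => (g (0, b)).1 := fun a b e => by
    have e' : (g (0, a)).1 = (g (0, b)).1 := e
    have := hadd (a - b) b
    rw [sub_add_cancel] at this
    refine sub_eq_zero.1 (hD g hg hn _ ?_)
    have := congrArg Prod.fst this
    rw [Prod.fst_add, e'] at this
    linear_combination -this
  let ψ : K ≃ K := Equiv.ofBijective _ (Finite.injective_iff_bijective.1 inj)
  have hψ : ∀ x, (g (0, ψ.symm x)).1 = x := ψ.apply_symm_apply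
  have hψ' : ∀ b, ψ.symm (g (0, b)).1 = b := ψ.symm_apply_apply
  obtain ⟨α, β, e⟩ := lin_K (φ := fun x => (g (0, ψ.symm x)).2) (fun x y => by
    have : ψ.symm (x + y) = ψ.symm x + ψ.symm y := by
      rw [← hψ' (ψ.symm x + ψ.symm y), hadd, Prod.fst_add, hψ, hψ]
    simp only [this, hadd, Prod.snd_add]) (fun t x ht => by
    have : ψ.symm (t * x) = t * ψ.symm x := by
      rw [← hψ' (t * ψ.symm x), hsm _ _ ht, Prod.smul_fst, hψ, smul_eq_mul]
    simp only [this, hsm _ _ ht, Prod.smul_snd, smul_eq_mul])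
  have e1 : ∀ x, g (0, ψ.symm x) = (x, α * x + β * star x) := fun x => Prod.ext (hψ x) (e x)
  have sα : star α = α := ql2_sym (β := β) fun x y => by
    have := h.sp.bb g hg (0, ψ.symm x) (0, ψ.symm y)
    rw [e1, e1] at this
    simp only [BB, star_zero, mul_zero, add_zero, sub_zero] at this
    linear_combination this
  refine ⟨α, β, sα, fun h2 => ql2_tr_sq h2 fun x => ?_, fun b => ?_, fun x => ⟨_, e1 x⟩⟩
  · have := h.sp.qf h2 g hg (0, ψ.symm x)
    rw [e1] at this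
    simp only [QF, star_zero, mul_zero, add_zero, star_add, star_mul', star_star, sα] at this ⊢
    linear_combination this - (α * x * star x) * h2
  · have := e (g (0, b)).1
    rwa [hψ'] at this

/-- The action of `g n g⁻¹` in the coordinates given by `ug α β`. -/
theorem tq_T {Y : Subgroup (GA (K × K))} (h : YH p Y) (hD : Dis Y) {g : GA (K × K)}
    (hg : g ∈ Y) (hn : g ∉ normalizer (RR K : Set (GA (K × K)))) :
    ∃ α β κ ε : K, star α = α ∧ ((2 : K) = 0 → β = 0) ∧ star κ = κ ∧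
      (∀ b, κ * b + ε * star b = 0 → b = 0) ∧ ∀ d : K, star d = d → ∀ v,
        (g * rr d * g⁻¹) (ug α β v) = ug α β (v.1 + d * (κ * v.2 + ε * star v.2), v.2) := by
  obtain ⟨α, β, sα, hβ, e1, e2⟩ := tq_graph h hD hg hn
  obtain ⟨κ, ε, e⟩ := lin_K (φ := fun b => (ql1T g (0, b)).1) (fun x y => by
    rw [← Prod.fst_add, ← ql1T_add]; simp) (fun t x ht => by
    rw [← smul_eq_mul, ← smul_eq_mul, ← Prod.smul_fst, ← ql1T_smul h.sp hg ht]; simp)
  refine ⟨α, β, κ, ε, sα, hβ, ql2_sym (β := ε) fun x y => ?_, fun b hb => ?_, fun d hd v => ?_⟩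
  · have h1 : ∀ x y : K, BB (0, x) (ql1T g (0, y)) = (g⁻¹ (0, y)).1 * star (g⁻¹ (0, x)).1 +
        star (g⁻¹ (0, y)).1 * (g⁻¹ (0, x)).1 := fun x y => by
      rw [ql1T, ql1_BB_inv h.sp hg]
      simp [BB]
    have h2 := h1 x y
    have h3 := h1 y x
    simp only [BB, star_zero, mul_zero, add_zero, zero_sub, e] at h2 h3
    linear_combination h3 - h2
  · rw [← e, ql1T] at hb
    exact hD g⁻¹ (inv_mem hg) (fun hh => hn (inv_inv g ▸ inv_mem hh)) b
      (hD g hg hn _ hb)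
  · obtain ⟨b, hb⟩ := e2 v.1
    have h1 : ug α β v = g (0, b) + (0, v.2) := by
      rw [hb]; ext <;> simp; ring
    have h2 : ql1T g (ug α β v) = ql1T g (0, v.2) := by
      rw [h1, ql1T_add, ql1T, ga_inv_apply]
      exact (congrArg (· + _) (map_zero g)).trans (zero_add _)
    have h3 : (ql1T g (0, v.2)).2 = _ := e1 _
    rw [ql1_conj h.sp hg hd, h2]
    have h4 := e v.2
    change (ql1T g (0, v.2)).2 = α * (ql1T g (0, v.2)).1 + β * star (ql1T g (0, v.2)).1 at h3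
    ext
    · simp [h4]
    · simp only [Prod.snd_add, Prod.smul_snd, h3, h4, ug_apply, smul_eq_mul, star_add, star_mul', hd]
      ring

theorem tq_opp {Y : Subgroup (GA (K × K))} (h : YH p Y) (h2 : (2 : K) = 0) {g : GA (K × K)}
    (hg : g ∈ Y) (hn : g ∉ normalizer (RR K : Set (GA (K × K)))) : ∃ α, Opp g α 0 := by
  obtain ⟨α, β, κ, ε, sα, hβ, sκ, inj, e⟩ := tq_T h (tq_dis h h2) hg hn
  obtain rfl := hβ h2
  have hε : ε = 0 := by
    refine ql2_tr_sq h2 fun b => ?_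
    have := h.sp.qf h2 _ (mul_mem (mul_mem hg (h.rr_mem (star_one _))) (inv_mem hg)) (ug α 0 (0, b))
    rw [e 1 (star_one _)] at this
    simp only [QF, ug_apply, star_add, star_mul', star_star, sα, sκ, star_zero, star_one] at this ⊢
    linear_combination this - (κ * b * star b + α * (κ * b + ε * star b) *
      (κ * star b + star ε * b)) * h2
  subst hε
  have hκ : κ ≠ 0 := fun h0 => one_ne_zero (inj 1 (by simp [h0]))
  have key : ∀ d : K, star d = d → g * rr d * g⁻¹ = ug α 0 * rl (d * κ) * (ug α 0)⁻¹ := fun d hd => by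
    rw [eq_mul_inv_iff_mul_eq]
    refine LinearEquiv.ext fun v => ?_
    rw [ga_mul, e d hd, ga_mul]
    congr 1
    ext <;> simp; ring
  refine ⟨α, sα, fun s => ⟨?_, ?_⟩⟩
  · rintro ⟨_, ⟨d, hd, rfl⟩, rfl⟩
    exact ⟨d * κ, by rw [star_mul', hd, sκ], key d hd⟩
  · rintro ⟨t, ht, rfl⟩
    have : star (t * κ⁻¹) = t * κ⁻¹ := by rw [star_mul', star_inv₀, ht, sκ]
    exact ⟨_, ⟨_, this, rfl⟩, by rw [key _ this, inv_mul_cancel_right₀ hκ]⟩

theorem wr_mem2 {Y : Subgroup (GA (K × K))} (h : YH p Y) (hq : qq K = 2)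
    (hn : ∃ g ∈ Y, g ∉ normalizer (RR K : Set (GA (K × K)))) : wr K ∈ Y := by
  obtain ⟨g, hg, hn⟩ := hn
  obtain ⟨α, ho⟩ := tq_opp h (tq_two p hq) hg hn
  have hl : rl (1 : K) ∈ Y := by
    have e1 : ug α 0 = rr α := LinearEquiv.ext fun v => by simp
    have := ho.L_mem h hg (star_one _)
    rw [e1] at this
    have := mul_mem (mul_mem (inv_mem (h.rr_mem ho.1)) this) (h.rr_mem ho.1)
    simpa [mul_assoc] using this
  exact mul_mem (mul_mem hl (h.rr_mem (by rw [star_neg, star_one]))) hl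

theorem two_Y2 {Y : Subgroup (GA (K × K))} (h : YH p Y) (hq : qq K = 2) : Two (RR K) Y (wr K) := by
  intro g hg
  refine or_iff_not_imp_left.2 fun hn => ?_
  obtain ⟨α₀, h0⟩ := tq_opp h (tq_two p hq) (wr_mem2 h hq ⟨g, hg, hn⟩) (wr_not_mem K)
  obtain ⟨α, h1⟩ := tq_opp h (tq_two p hq) hg hn
  have sc : star (α - α₀) = α - α₀ := by rw [star_sub, h0.1, h1.1]
  have h2 := h0.rr_mul sc
  rw [add_sub_cancel] at h2
  exact ⟨_, ⟨_, sc, rfl⟩, h1.norm h2⟩

theorem tq_lin (hq : qq K = 2) {φ : K → K} (ha : ∀ x y, φ (x + y) = φ x + φ y)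
    (hf : ∀ x, star (φ x) = φ x) : ∃ e, ∀ x, φ x = e * star x + star e * x :=
  lin_F ha (fun t x ht => by
    rcases fix_of_two hq ht with rfl | rfl
    · have := ha 0 0
      rw [add_zero, left_eq_add] at this
      rw [zero_mul, zero_mul, this]
    · rw [one_mul, one_mul]) hf

theorem hasW2 {F : FS K} (hF : F.IsSaturated p) (hq : qq K = 2) (hQ : F.IsEssential p (Qs K)) :
    HasW F := by
  obtain ⟨f, hf⟩ := mem_YF.1 (wr_mem2 (yh_Y hF) hq (nn_Y hF hQ))
  have fx : ∀ g ∈ Qs K, (f g).x = g.v.b := fun g hg => by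
    simpa [wr_apply] using congrArg Prod.fst (hf.ind g hg)
  have fb : ∀ g ∈ Qs K, (f g).v.b = -g.x := fun g hg => by
    simpa [wr_apply] using congrArg Prod.snd (hf.ind g hg)
  have fc : ∀ g ∈ Qs K, (f g).v.c = 0 := hf.iso.maps
  obtain ⟨φ, hφ⟩ : ∃ φ : UG K → K, ∀ g, φ g = (f g).v.a - (wq g).v.a := ⟨_, fun _ => rfl⟩
  have add : ∀ g ∈ Qs K, ∀ h ∈ Qs K, φ (g * h) = φ g + φ h := fun g hg h hh => by
    rw [hφ, hφ, hφ, hf.iso.mor.map_mul hg hh]
    simp [wq, fx g hg, fb h hh, fc h hh, mem_Qs.1 hh]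
    ring
  have dep : ∀ g ∈ Qs K, ∀ h ∈ Qs K, g.x = h.x → g.v.b = h.v.b → φ g = φ h := fun g hg h hh a b => by
    have hz : g * h⁻¹ ∈ Zs K := by simp [mem_Zs, a, b, mem_Qs.1 hg, mem_Qs.1 hh]
    rw [← inv_mul_cancel_right g h, add _ hz.2.1 h hh, hφ (g * h⁻¹), hf.fix _ hz, qstd_fix hz, sub_self,
      zero_add]
  have sφ : ∀ g, star (φ g) = φ g := fun g => by rw [hφ, star_sub, Hm.ha, Hm.ha]
  have add' : ∀ v w, φ (ybL (v + w)) = φ (ybL v) + φ (ybL w) := fun v w => by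
    rw [← add _ (ybL_mem v) _ (ybL_mem w)]
    exact dep _ (ybL_mem _) _ (mul_mem (ybL_mem v) (ybL_mem w)) (by simp [ybL]) (by simp [ybL])
  obtain ⟨e1, h1⟩ := tq_lin hq (φ := fun x => φ (ybL (x, 0))) (fun x y => by
    rw [← add']; simp) fun _ => sφ _
  obtain ⟨e2, h2⟩ := tq_lin hq (φ := fun b => φ (ybL (0, b))) (fun x y => by
    rw [← add']; simp) fun _ => sφ _
  have key : ∀ g ∈ Qs K, φ g = e1 * star g.x + star e1 * g.x + (e2 * star g.v.b + star e2 * g.v.b) :=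
    fun g hg => by
      rw [← h1, ← h2, ← add']
      exact dep _ hg _ (ybL_mem _) (by simp [ybL]) (by simp [ybL])
  let t : UG K := ybL (-e1, -e2)
  refine (hf.iso.mor.conj_comp (mem_top t⁻¹)).congr fun g hg => ?_
  have h3 : f g = t * wq g * t⁻¹ := by
    have a1 := key g hg
    rw [hφ, sub_eq_iff_eq_add] at a1
    rw [conj_eq]
    apply UG.ext4 <;> simp [a1, fx g hg, fb g hg, fc g hg, t, wq, ybL]
    ring
  rw [h3]
  group

/-- Bruhat decomposition of `Aut_F(Q)`. -/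
theorem tq_dec {F : FS K} (hF : F.IsSaturated p) (hq : qq K = 2) (hW : HasW F) {f : UG K → UG K}
    (hf : F.Iso (Qs K) (Qs K) f) : (∃ α ∈ AF F, ∀ x ∈ Qs K, f x = α x) ∨
      ∃ α ∈ AF F, ∃ β ∈ AF F, ∀ x ∈ Qs K, f x = α (wq (β x)) := by
  obtain ⟨α, hα, f', M, h, e⟩ := frat_Y hF hf
  rcases two_Y2 (yh_Y hF) hq M (mem_YF.2 ⟨_, h⟩) with hn | ⟨_, ⟨c, hc, rfl⟩, hn⟩
  · obtain ⟨β, hβ, e'⟩ := ext_Y hF h hn
    exact Or.inl ⟨α * β, mul_mem hα hβ, fun x hx => by rw [e x hx, ← e' x hx]; rfl⟩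
  · have h1 := (qInd_conj F (jv ⟨0, 0, -c, by simp, by simp [hc]⟩)).comp (qInd_wq hW)
    rw [jv_v, neg_neg] at h1
    obtain ⟨f1, h2, -, h3⟩ := h1.inv
    obtain ⟨β, hβ, e'⟩ := ext_Y hF (h2.comp h) hn
    refine Or.inr ⟨_, mul_mem hα (conj_mem_AF F (jv ⟨0, 0, -c, by simp, by simp [hc]⟩)), β, hβ,
      fun x hx => ?_⟩
    rw [e x hx, e' x hx, MulAut.mul_apply, MulAut.conj_apply, h3 _ (h.iso.maps x hx)]

theorem mor_Q2 {F F' : FS K} (hF : F.IsSaturated p) (hq : qq K = 2) (hA : AF F ≤ AF F')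
    (hW : HasW F) (hW' : HasW F') {f : UG K → UG K} (hf : F.Iso (Qs K) (Qs K) f) :
    F'.Mor (Qs K) f := by
  rcases tq_dec hF hq hW hf with ⟨α, hα, e⟩ | ⟨α, hα, β, hβ, e⟩
  · exact ((mem_AF.1 (hA hα)).mono le_top).congr fun x hx => (e x hx).symm
  · exact (Mor.comp (mem_AF.1 (hA hα)) (Mor.comp hW' ((mem_AF.1 (hA hβ)).mono le_top)
      fun x hx => aut_Q β hx) fun _ _ => mem_top _).congr fun x hx => (e x hx).symm

theorem inv_Q2 {F : FS K} (hF : F.IsSaturated p) (hq : qq K = 2) (hW : HasW F) {A : Subgroup (UG K)}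
    (hA : A ≤ Qs K) (h1 : ∀ α ∈ AF F, ∀ a ∈ A, α a ∈ A) (h2 : ∀ a ∈ A, wq a ∈ A) {f : UG K → UG K}
    (hf : F.Iso (Qs K) (Qs K) f) : ∀ a ∈ A, f a ∈ A := fun a ha => by
  rcases tq_dec hF hq hW hf with ⟨α, hα, e⟩ | ⟨α, hα, β, hβ, e⟩
  · exact e a (hA ha) ▸ h1 α hα a ha
  · exact e a (hA ha) ▸ h1 α hα _ (h2 _ (h1 β hβ a ha))

end Cfsg.Agent.U4F
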