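import Mathlib
import Cfsg.Agent.U4X.TQ

/-!
# The case `q = 2`: the subgroups `Ex x`
-/

set_option autoImplicit false
set_option linter.unusedSectionVars false
set_option linter.unusedVariables false

namespace Cfsg.Agent.U4F

open Cfsg Cfsg.FusionSystem Cfsg.Agent.Fus Subgroup

variable {K : Type*} [Field K] [StarRing K] [UF K] {p : ℕ} [Fact p.Prime] [CharP K p]

theorem te1_two (hq : qq K = 2) : (2 : K) = 0 := by
  rcases fix_of_two hq (t := 2) (by simp) with h | h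
  · exact h
  · exact absurd (by linear_combination h) (one_ne_zero (α := K))

theorem te1_norm (hq : qq K = 2) {x : K} (hx : x ≠ 0) : x * star x = 1 :=
  (fix_of_two hq (by simp [mul_comm])).resolve_left (mul_ne_zero hx (star_ne_zero.2 hx))

theorem te1_V_le (x : K) : Vs K ≤ Ex x := fun g hg => ⟨0, by simp, by rw [zero_mul]; exact hg⟩

theorem te1_sx (x : K) : sx x ∈ Ex x := ⟨1, by simp, by simp⟩

theorem te1_sx_mul (x y : K) : sx x * sx y = sx (x + y) := by apply UG.ext4 <;> simp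

theorem te1_sx_zero : sx (0 : K) = 1 := rfl

theorem te1_sx_sq (hq : qq K = 2) (x : K) : sx x * sx x = 1 := by
  rw [te1_sx_mul, ← two_mul, te1_two hq, zero_mul, te1_sx_zero]

theorem te1_x {E : Subgroup (UG K)} {f : UG K → UG K} (hf : MulOn E f) (hV : Vs K ≤ E) {g : GA (Hm K)}
    (e : ∀ v, f (jv v) = jv (g v)) {s : UG K} (hs : s ∈ E) : g * uu s.x = uu (f s).x * g :=
  LinearEquiv.ext fun v => xb_jv_inj (by
    rw [ga_mul, ga_mul, ← e, ← conj_jv, hf.map_conj hs (hV (jv_mem v)), e, conj_jv])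

theorem te1_sq (hq : qq K = 2) {h : UG K} (hx : h.x ≠ 0) (h2 : h * h = 1) :
    h.v.c = 0 ∧ h.v.b * star h.x + star h.v.b * h.x = 0 := by
  have t := te1_two hq
  have e1 := congrArg (fun g : UG K => g.v.b) h2
  have e2 := congrArg (fun g : UG K => g.v.a) h2
  simp only [mul_v, add_a, add_b, uu_a, uu_b, one_v, zero_a, zero_b] at e1 e2
  have c : h.v.c = 0 := (mul_eq_zero.1 (by linear_combination e1 - h.v.b * t : h.x * h.v.c = 0)).resolve_left hx
  exact ⟨c, by rw [c] at e2; linear_combination e2 - h.v.a * t⟩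

/-- The involutions over `x` are conjugate under `V`. -/
theorem te1_conj (hq : qq K = 2) {h : UG K} {x : K} (hx : x ≠ 0) (e : h.x = x) (h2 : h * h = 1) :
    ∃ u, jv u * sx x * (jv u)⁻¹ = h := by
  subst e
  have t := te1_two hq
  have n := te1_norm hq hx
  obtain ⟨c, e⟩ := te1_sq hq hx h2
  have s : star (h.v.b * star h.x) = h.v.b * star h.x := by
    rw [star_mul', star_star]; linear_combination e - h.v.b * star h.x * t
  obtain ⟨b, hb⟩ := tr_surj hx (t := h.v.a + h.v.b * star h.x) (by rw [star_add, s, h.v.ha])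
  refine ⟨⟨0, b, h.v.b * star h.x, star_zero K, s⟩, ?_⟩
  rw [conj_eq]
  apply UG.ext4 <;> simp only [sub_a, sub_b, sub_c, add_a, add_b, add_c, uu_a, uu_b, uu_c, jv_v, jv_x, sx_v, sx_x, zero_a,
    zero_b, zero_c, map_zero]
  · linear_combination -hb - h.v.b * star h.x * n - (h.v.a + h.v.b * star h.x) * t
  · linear_combination -h.v.b * n - h.v.b * t
  · rw [c]; ring

theorem te1_comm (hq : qq K = 2) {F : FS K} {x : K} (hx : x ≠ 0) {f : UG K → UG K} (hf : F.Iso (Ex x) (Ex x) f)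
    {g : GA (Hm K)} (e : ∀ v, f (jv v) = jv (g v)) : (f (sx x)).x = x ∧ g * uu x = uu x * g := by
  have k := te1_x hf.mor.mulOn (te1_V_le x) e (te1_sx x)
  obtain ⟨t, ht, e'⟩ := hf.maps _ (te1_sx x)
  rcases fix_of_two hq ht with rfl | rfl
  · rw [e', zero_mul, uu_zero, one_mul, mul_eq_left, sx_x, ← uu_zero] at k
    exact absurd (uu_inj k) hx
  · rw [one_mul] at e'
    exact ⟨e', by rwa [e'] at k⟩

theorem comm_of_iso {F : FS K} (hq : qq K = 2) {x : K} (hx : x ≠ 0) {f : UG K → UG K}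
    (hf : F.Iso (Ex x) (Ex x) f) : ∃ g ∈ XF F, g * uu x = uu x * g ∧ ∀ v, f (jv v) = jv (g v) := by
  obtain ⟨g, hg, e⟩ := iso_V (hf.mor.mono (te1_V_le x))
  exact ⟨g, hg, (te1_comm hq hx hf e).2, e⟩

theorem mor_E {F F' : FS K} (hF' : F'.IsSaturated p) (hq : qq K = 2) {x : K} (hx : x ≠ 0)
    {f : UG K → UG K} (hf : F.Iso (Ex x) (Ex x) f) {g : GA (Hm K)} (hg : g ∈ XF F')
    (e : ∀ v, f (jv v) = jv (g v)) : F'.Mor (Ex x) f := by
  obtain ⟨h1, h2⟩ := te1_comm hq hx hf e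
  obtain ⟨R, f', hf', hV, e', hR⟩ := xb_extend hF' hg
  have cs : ∀ s ∈ Ex x, s.x = 0 ∨ s.x = x := fun s ⟨t, ht, k⟩ =>
    (fix_of_two hq ht).imp (fun c => by rw [k, c, zero_mul]) fun c => by rw [k, c, one_mul]
  have hE : F'.Mor (Ex x) f' := hf'.mono fun s hs => (cs s hs).elim (fun c => hV c) fun c =>
    hR s ⟨x, by rw [c, h2, mul_inv_cancel_right]⟩
  have h3 : (f' (sx x)).x = x := uu_inj (mul_right_cancel
    ((te1_x hE.mulOn (te1_V_le x) e' (te1_sx x)).symm.trans h2))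
  obtain ⟨u, hu⟩ := te1_conj hq hx h1 (by rw [← hf.mor.map_mul (te1_sx x) (te1_sx x), te1_sx_sq hq, hf.mor.map_one])
  obtain ⟨w, hw⟩ := te1_conj hq hx h3 (by rw [← hE.map_mul (te1_sx x) (te1_sx x), te1_sx_sq hq, hE.map_one])
  have k : ∀ v, jv u * (jv w)⁻¹ * f' (jv v) * (jv u * (jv w)⁻¹)⁻¹ = f (jv v) := fun v => by
    rw [e, e', Vs_comm (mul_mem (jv_mem u) (inv_mem (jv_mem w))) (jv_mem _), mul_inv_cancel_right]
  refine (hE.conj_comp (mem_top (jv u * (jv w)⁻¹))).congr fun s hs => ?_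
  rcases cs s hs with c | c
  · rw [eq_jv c, k]
  · rw [← jv_mul_sx s, c, hE.map_mul (te1_V_le x (jv_mem _)) (te1_sx x),
      hf.mor.map_mul (te1_V_le x (jv_mem _)) (te1_sx x), ← conj_mul, k, ← hu, ← hw]
    group

theorem inner_of_V (hq : qq K = 2) {α : MulAut (UG K)} (h : ∀ v, α (jv v) = jv v) :
    ∃ s, α = MulAut.conj s := by
  have t := te1_two hq
  have hx : ∀ s, (α s).x = s.x := fun s => by
    have := te1_x (E := ⊤) (f := α) (g := 1) (fun x _ y _ => map_mul α x y) le_top h (mem_top s)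
    rw [one_mul, mul_one] at this
    exact (uu_inj this).symm
  have sq : ∀ x, α (sx x) * α (sx x) = 1 := fun x => by rw [← map_mul, te1_sx_sq hq, map_one]
  obtain ⟨y, hy⟩ := UF.nt (K := K)
  have y0 : y ≠ 0 := fun c => hy (by rw [c, star_zero])
  have y1 : ¬ ∃ t, star t = t ∧ y = t * 1 := fun ⟨t, ht, e⟩ => hy (by rw [e, mul_one, ht])
  have ty : y + star y = 1 := (fix_of_two hq (by simp [add_comm])).resolve_left fun c =>
    hy (by linear_combination c - y * t)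
  obtain ⟨u, hu⟩ := te1_conj hq one_ne_zero (hx (sx 1)) (sq 1)
  obtain ⟨k, hk⟩ : ∃ k, α (sx y) = jv u * k * (jv u)⁻¹ := ⟨(jv u)⁻¹ * α (sx y) * jv u, by group⟩
  have kx : k.x = y := by simpa [hk] using hx (sx y)
  have k2 : k * k = 1 := by
    have := sq y
    rwa [hk, conj_mul, conj_eq_one_iff] at this
  have kc : sx 1 * k = k * sx 1 := by
    have : α (sx 1) * α (sx y) = α (sx y) * α (sx 1) := by rw [← map_mul, ← map_mul, te1_sx_mul, te1_sx_mul, add_comm]
    rwa [hk, ← hu, conj_mul, conj_mul, mul_left_inj, mul_right_inj] at this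
  obtain ⟨c, e⟩ := te1_sq hq (kx ▸ y0) k2
  have e' := congrArg (fun g : UG K => g.v.a) kc
  simp only [mul_v, add_a, uu_a, sx_v, sx_x, zero_a, map_zero, c] at e'
  have b0 : k.v.b = 0 := eq_zero_of_perp_two one_ne_zero y1 (by linear_combination e') (kx ▸ e)
  let w : Hm K := ⟨0, k.v.a, 0, star_zero K, star_zero K⟩
  have w1 : jv w * sx 1 * (jv w)⁻¹ = sx 1 := by
    rw [conj_eq]
    apply UG.ext4 <;> simp [w]
    linear_combination -k.v.a * t
  have w2 : jv w * sx y * (jv w)⁻¹ = k := by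
    rw [conj_eq]
    apply UG.ext4 <;> simp [w, b0, c, kx]
    linear_combination -k.v.a * ty - k.v.a * t
  have a1 : α (sx 1) = MulAut.conj (jv u * jv w) (sx 1) := by rw [← hu, MulAut.conj_apply, ← w1]; nth_rw 2 [w1]; group
  have a2 : α (sx y) = MulAut.conj (jv u * jv w) (sx y) := by rw [hk, MulAut.conj_apply, ← w2]; group
  refine ⟨jv u * jv w, MulEquiv.ext fun g => ?_⟩
  rw [← jv_mul_sx g, map_mul, map_mul, h, MulAut.conj_apply, Vs_comm (mul_mem (jv_mem u) (jv_mem w)) (jv_mem _),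
    mul_inv_cancel_right, mul_right_inj]
  obtain ⟨a, b, ha, hb, e⟩ := span_two one_ne_zero y1 g.x
  rcases fix_of_two hq ha with rfl | rfl <;> rcases fix_of_two hq hb with rfl | rfl <;>
    simp only [e, zero_mul, one_mul, add_zero, zero_add, ← te1_sx_mul, te1_sx_zero, map_mul, map_one, a1, a2]

theorem AF_le_two {F F' : FS K} (hF' : F'.IsSaturated p) (hq : qq K = 2)
    (h : ∀ g ∈ XF F, g ∈ normalizer (PP K : Set (GA (Hm K))) → g ∈ XF F') : AF F ≤ AF F' := fun α hα => by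
  obtain ⟨g, hg, hn, e⟩ := res_X hα
  obtain ⟨β, hβ, e'⟩ := ext_X hF' (h g hg hn) hn
  obtain ⟨s, hs⟩ := inner_of_V hq (α := β⁻¹ * α) fun v => by rw [MulAut.mul_apply, e, ← e', MulAut.inv_apply_self]
  exact (mul_mem_cancel_left (inv_mem hβ)).1 (hs ▸ conj_mem_AF F' s)

theorem le_two {F F' : FS K} (hF : F.IsSaturated p) (hF' : F'.IsSaturated p) (hq : qq K = 2)
    (hW : HasW F) (hW' : HasW F')
    (hX : ∀ g ∈ XF F, (g ∈ normalizer (PP K : Set (GA (Hm K))) ∨ F.IsEssential p (Vs K) ∨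
      ∃ x, x ≠ 0 ∧ g * uu x = uu x * g) → g ∈ XF F') : F ≤ F' := by
  have hA := AF_le_two hF' hq fun g hg hn => hX g hg (.inl hn)
  refine le_iff_mor.2 fun P f hf => hF.mor_of_alperin (isPGroup_top K p) (fun R g hR hg => ?_) hf
  rcases hR with rfl | hR
  · obtain ⟨α, hα, e⟩ := exists_AF hg.mor
    exact (mem_AF.1 (hA hα)).congr fun x _ => e x
  rcases ess_cases hF hR with rfl | rfl | ⟨-, x, hx, rfl⟩
  · obtain ⟨M, hM, e⟩ := iso_V hg.mor
    exact (mem_XF.1 (hX M hM (.inr (.inl hR)))).congr fun x hx => by rw [← e, ← eq_jv hx]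
  · exact mor_Q2 hF hq hA hW hW' hg
  · obtain ⟨M, hM, c, e⟩ := comm_of_iso hq hx hg
    exact mor_E hF' hq hx hg (hX M hM (.inr (.inr ⟨x, hx, c⟩))) e

end Cfsg.Agent.U4F
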