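import Mathlib
import Cfsg.Agent.U4X.TE1

/-!
# The case `q = 2`: essential subgroups and the core
-/

set_option autoImplicit false
set_option linter.unusedSectionVars false
set_option linter.unusedVariables false

namespace Cfsg.Agent.U4F

open Cfsg Cfsg.FusionSystem Cfsg.Agent.Fus Subgroup

variable {K : Type*} [Field K] [StarRing K] [UF K] {p : ℕ} [Fact p.Prime] [CharP K p]

namespace TE2

variable (K p) in
theorem p_two (hq : qq K = 2) : p = 2 := by
  obtain ⟨n, h⟩ := qq_pow K p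
  have hp : p.Prime := Fact.out
  exact (Nat.prime_dvd_prime_iff_eq hp Nat.prime_two).1 (hq ▸ h ▸ dvd_pow_self p n.succ_ne_zero)

variable (K) in
theorem two_zero (p : ℕ) [Fact p.Prime] [CharP K p] (hq : qq K = 2) : (2 : K) = 0 := by
  have := CharP.cast_eq_zero K p
  rw [p_two K p hq] at this
  exact_mod_cast this

theorem ord_uu (h2 : (2 : K) = 0) {x : K} (hx : x ≠ 0) : orderOf (uu x) = 2 :=
  orderOf_eq_prime (by rw [pow_two, uu_mul, ← two_mul, h2, zero_mul, uu_zero])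
    fun e => hx (uu_inj (e.trans uu_zero.symm))

theorem V_le_E (x : K) : Vs K ≤ Ex x := fun g hg => ⟨0, by simp, by rw [zero_mul]; exact hg⟩

/-- The vectors fixed by `uu x`. -/
theorem fix_iff (h2 : (2 : K) = 0) {x : K} (hx : x ≠ 0) {w : Hm K} :
    uu x w = w ↔ w.c = 0 ∧ ∃ t, star t = t ∧ w.b = t * x := by
  constructor
  · intro h
    have hb := congrArg Hm.b h
    have ha := congrArg Hm.a h
    simp only [uu_a, uu_b] at ha hb
    have hc : w.c = 0 := (mul_eq_zero.1 (by linear_combination hb)).resolve_left hx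
    exact ⟨hc, perp_line hx hx (by linear_combination (x * star x) * h2)
      (by rw [hc] at ha; linear_combination ha)⟩
  · rintro ⟨hc, t, ht, hb⟩
    ext
    · simp only [uu_a, hc, hb, star_mul, ht]
      linear_combination (t * x * star x) * h2
    · simp [hc]
    · rfl

/-- The normal subgroup. -/
def AA (x : K) : Subgroup (UG K) where
  carrier := {g | g.v.c = 0 ∧ (∃ t, star t = t ∧ g.v.b = t * x) ∧ ∃ t, star t = t ∧ g.x = t * x}
  one_mem' := ⟨rfl, ⟨0, by simp, by simp⟩, 0, by simp, by simp⟩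
  mul_mem' := by
    rintro a b ⟨h1, ⟨s, hs, e⟩, s', hs', e'⟩ ⟨h2, ⟨t, ht, f⟩, t', ht', f'⟩
    exact ⟨by simp [h1, h2], ⟨s + t, by simp [hs, ht], by simp [e, f, h2, add_mul]⟩, s' + t',
      by simp [hs', ht'], by simp [e', f', add_mul]⟩
  inv_mem' := by
    rintro a ⟨h1, ⟨s, hs, e⟩, s', hs', e'⟩
    exact ⟨by simp [h1], ⟨-s, by simp [hs], by simp [e, h1]⟩, -s', by simp [hs'], by simp [e']⟩

theorem AA_conj (x : K) (s : UG K) {a : UG K} (ha : a ∈ AA x) : s * a * s⁻¹ ∈ AA x := by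
  obtain ⟨h1, ⟨t, ht, e⟩, t', ht', e'⟩ := ha
  rw [conj_eq]
  refine ⟨by simp [h1], ⟨t - t' * s.v.c, by simp [ht, ht', mul_comm], ?_⟩, t', ht', e'⟩
  simp only [sub_b, add_b, uu_b, e, e', h1]
  ring

theorem AA_sq (h2 : (2 : K) = 0) {x : K} {a : UG K} (ha : a ∈ AA x) : a * a = 1 := by
  obtain ⟨h1, ⟨t, ht, e⟩, t', ht', e'⟩ := ha
  apply UG.ext4
  · simp only [mul_v, add_a, uu_a, e, e', h1, star_mul, ht, ht', one_v, zero_a]
    linear_combination (a.v.a + t * t' * x * star x) * h2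
  · simp only [mul_v, add_b, uu_b, h1, one_v, zero_b]
    linear_combination a.v.b * h2
  · simp [h1]
  · simp only [mul_x, one_x]
    linear_combination a.x * h2

end TE2

open TE2

theorem conj_of_ess {F : FS K} (hF : F.IsSaturated p) (hq : qq K = 2) (hV : F.IsEssential p (Vs K))
    {x y : K} (hx : x ≠ 0) (hy : y ≠ 0) : ∃ h ∈ XF F, h * uu x * h⁻¹ = uu y := by
  have h2 := two_zero K p hq
  obtain rfl := p_two K p hq
  obtain ⟨-, -, hN, E, hE⟩ := hV
  have hE' := Inv.SE.isStronglyEmbedded_iff_isStronglyPEmbedded.2 hE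
  set π := QuotientGroup.mk' ((Inn (Vs K)).subgroupOf (F.autGroup (Vs K))) with hπ
  have hi : Function.Injective π := by
    rw [injective_iff_map_eq_one]
    intro a ha
    obtain ⟨g, hg, e⟩ := mem_inn_iff.1 (mem_subgroupOf.1 ((QuotientGroup.eq_one_iff _).1 ha))
    refine Subtype.ext (MulEquiv.ext fun v => Subtype.ext ?_)
    rw [e, Vs_comm hg v.2, mul_inv_cancel_right]
    rfl
  have ho : ∀ {z : K}, z ≠ 0 → orderOf (π ⟨xbHom K (uu z), xb_mem.2 (uu_mem_X F z)⟩) = 2 := fun {z} hz => by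
    rw [orderOf_injective π hi, ← orderOf_coe, orderOf_injective _ xb_inj, ord_uu h2 hz]
  obtain ⟨c, hc⟩ := isConj_iff.1 (hE'.isConj_of_involutions (ho hx) (ho hy))
  obtain ⟨⟨c, hc'⟩, rfl⟩ := QuotientGroup.mk'_surjective _ c
  obtain ⟨h, rfl⟩ := xb_surj c
  rw [← hπ, ← map_inv, ← map_mul, ← map_mul] at hc
  refine ⟨h, xb_mem.1 hc', xb_inj ?_⟩
  rw [map_mul, map_mul, map_inv]
  exact congrArg Subtype.val (hi hc)

theorem nn_E {F : FS K} (hF : F.IsSaturated p) (hq : qq K = 2) {x : K} (hx : x ≠ 0)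
    (hE : F.IsEssential p (Ex x)) : ∃ g ∈ XF F, g * uu x = uu x * g ∧ g ∉ PP K := by
  by_contra! h
  have key : ∀ f, F.Iso (Ex x) (Ex x) f → ∀ a ∈ Vs K, ∃ y, f a = sx y * a * (sx y)⁻¹ := fun f hf a ha => by
    obtain ⟨g, hg, hc, e⟩ := comm_of_iso hq hx hf
    obtain ⟨y, rfl⟩ := h g hg hc
    exact ⟨y, by rw [eq_jv ha, e, conj_jv, sx_x]⟩
  have hH : Hs K ≤ Ex x := inf_le_left.trans (V_le_E x)
  obtain ⟨y, hy⟩ := Ek.exists_off hx
  haveI := normal_of_Hs_le hH
  refine hy ((hE.isRadical (isPGroup_top K p)).mem_of_chain3 (isPGroup_top K p) hE.isCentric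
    (X := Hs K) (Y := Zs K) (Z := ⊥) (invA_autGroup_of_iso le_top hH fun f hf a ha => ?_)
    (invA_autGroup_of_iso le_top (Ek.Z_le_H.trans hH) fun f hf a ha => ?_) (invA_bot _) Ek.Z_le_H bot_le
    bot_le (s := sx y) ⟨trivial, by rw [normalizer_eq_top]; trivial⟩ (fun a _ => comm_mem_H _ _)
    (fun a ha => comm_mem_Z (Or.inr ha)) fun a ha => ?_)
  · obtain ⟨y, e⟩ := key f hf a ha.1
    exact e ▸ normal_Hs.conj_mem a ha _
  · obtain ⟨y, e⟩ := key f hf a ha.1
    exact e ▸ normal_Zs.conj_mem a ha _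
  · rw [← Zs_comm ha, mul_inv_cancel_right, inv_mul_cancel]
    exact one_mem _

theorem core_ne_Q {F : FS K} (hF : F.IsSaturated p) (hV : ¬ F.IsEssential p (Vs K))
    (hE : ∀ y : K, y ≠ 0 → ¬ F.IsEssential p (Ex y)) : F.core ≠ ⊥ := by
  intro hc
  have hN : F.IsNormal (Qs K) := hF.isNormal_of_alperin (isPGroup_top K p) fun R hR => by
    rcases hR with rfl | hR
    · refine ⟨le_top, fun g hg x hx => ?_⟩
      obtain ⟨α, -, e⟩ := exists_AF hg.mor
      exact e x ▸ aut_Q α hx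
    rcases ess_cases hF hR with rfl | rfl | ⟨-, y, hy, rfl⟩
    · exact (hV hR).elim
    · exact ⟨le_rfl, fun g hg x hx => hg.maps x hx⟩
    · exact (hE y hy hR).elim
  have := (hc ▸ hN.le_core) (Ek.hb_mem (1 : K)).2
  exact one_ne_zero (Ek.eq_one.1 (mem_bot.1 this)).2.2.1

theorem core_ne_E {F : FS K} (hF : F.IsSaturated p) (hq : qq K = 2) (hW : HasW F)
    (hN : ∀ g ∈ XF F, g ∈ normalizer (PP K : Set (GA (Hm K))) → g ∈ PP K)
    (hV : ¬ F.IsEssential p (Vs K)) {x : K} (hx : x ≠ 0)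
    (hE : ∀ y : K, y ≠ 0 → F.IsEssential p (Ex y) → y = x) : F.core ≠ ⊥ := by
  intro hc
  have h2 := two_zero K p hq
  have hA : ∀ α ∈ AF F, ∀ a ∈ AA x, α a ∈ AA x := fun α hα a ha => by
    obtain ⟨g, hg, hn, e⟩ := res_X hα
    obtain ⟨y, rfl⟩ := hN g hg hn
    obtain ⟨s, hs⟩ := inner_of_V hq (α := (MulAut.conj (sx y))⁻¹ * α) fun v => by
      rw [MulAut.mul_apply, e, show jv (uu y v) = MulAut.conj (sx y) (jv v) from (conj_jv (sx y) v).symm,
        MulAut.inv_apply_self]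
    rw [inv_mul_eq_iff_eq_mul.1 hs]
    exact AA_conj x _ (AA_conj x s ha)
  have hn : F.IsNormal (AA x) := hF.isNormal_of_alperin (isPGroup_top K p) fun R hR => by
    rcases hR with rfl | hR
    · refine ⟨le_top, fun g hg a ha => ?_⟩
      obtain ⟨α, hα, e⟩ := exists_AF hg.mor
      exact e a ▸ hA α hα a ha
    rcases ess_cases hF hR with rfl | rfl | ⟨-, y, hy, rfl⟩
    · exact (hV hR).elim
    · refine ⟨fun a ha => ha.1, fun f hf => inv_Q2 hF hq hW (A := AA x) (fun a ha => ha.1) hA ?_ hf⟩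
      rintro a ⟨-, hb, t, ht, e⟩
      exact ⟨rfl, ⟨-t, by simp [ht], by simp [wq, e]⟩, hb⟩
    · obtain rfl := hE y hy hR
      refine ⟨fun a ha => ha.2.2, fun f hf a ha => ?_⟩
      obtain ⟨g, -, hcm, e⟩ := comm_of_iso hq hx hf
      obtain ⟨t, ht, et⟩ := hf.maps a ha.2.2
      rcases fix_of_two hq ht with rfl | rfl
      · have h0 : f a ∈ Vs K := by rw [mem_Vs, et, zero_mul]
        have h1 : a = jv (g⁻¹ (f a).v) := hf.mor.inj ha.2.2 (V_le_E _ (jv_mem _)) (by
          rw [e, ga_apply_inv, ← eq_jv h0])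
        have h3 : uu y a.v = a.v := (fix_iff h2 hx).2 ⟨ha.1, ha.2.1⟩
        have h4 : g a.v = (f a).v := by rw [congrArg UG.v h1, jv_v, ga_apply_inv]
        have h5 : uu y (f a).v = (f a).v := by rw [← h4, ← ga_mul, ← hcm, ga_mul, h3]
        exact ⟨((fix_iff h2 hx).1 h5).1, ((fix_iff h2 hx).1 h5).2, 0, ht, et⟩
      · have h0 : f a * f a = 1 := by
          rw [← hf.mor.map_mul ha.2.2 ha.2.2, AA_sq h2 ha, hf.mor.map_one]
        have h1 := congrArg UG.v h0
        rw [mul_v, et, one_mul, one_v] at h1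
        have h5 : uu y (f a).v = (f a).v := by
          rw [eq_neg_of_add_eq_zero_right h1]
          ext
          · rw [neg_a]; linear_combination (-(f a).v.a) * h2
          · rw [neg_b]; linear_combination (-(f a).v.b) * h2
          · rw [neg_c]; linear_combination (-(f a).v.c) * h2
        exact ⟨((fix_iff h2 hx).1 h5).1, ((fix_iff h2 hx).1 h5).2, 1, ht, et⟩
  have := (hc ▸ hn.le_core) (show sx x ∈ AA x from ⟨rfl, ⟨0, by simp, by simp⟩, 1, by simp, by simp⟩)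
  exact hx (Ek.eq_one.1 (mem_bot.1 this)).1

end Cfsg.Agent.U4F
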