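import Mathlib
import Cfsg.Agent.U4F.Eq
import Cfsg.Agent.Cl.GFSmall

/-!
# The case `q = 2`: definitions

`K4` is the table field with four elements. `V = Hm K4` has the basis `ev y = uu y (0, 0, 1)`, permuted regularly by
`P`; vectors are coded by numbers below `16`, additive maps by their four columns.
-/

set_option autoImplicit false
set_option linter.unusedSectionVars false
set_option linter.unusedVariables false

namespace Cfsg.Agent.U4F

open Cfsg Cfsg.FusionSystem Cfsg.Agent.Fus Subgroup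

section Gen
variable {K : Type*} [Field K] [StarRing K]

/-- `(a, b, c) ↦ (a + k c, b, c)`, centralizing `P`. -/
def thV (k : K) (hk : star k = k) : GA (Hm K) :=
  mkA (fun v => ⟨v.a + k * v.c, v.b, v.c, by simp [hk], v.hc⟩)
    (fun v => ⟨v.a - k * v.c, v.b, v.c, by simp [hk], v.hc⟩)
    (fun v w => by ext <;> simp; ring) (fun v => by ext <;> simp) (fun v => by ext <;> simp)

@[simp] theorem thV_a (k : K) (hk) (v : Hm K) : (thV k hk v).a = v.a + k * v.c := rfl
@[simp] theorem thV_b (k : K) (hk) (v : Hm K) : (thV k hk v).b = v.b := rfl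
@[simp] theorem thV_c (k : K) (hk) (v : Hm K) : (thV k hk v).c = v.c := rfl

theorem thV_uu (k : K) (hk) (x : K) : thV k hk * uu x = uu x * thV k hk :=
  LinearEquiv.ext fun v => by rw [ga_mul, ga_mul]; ext <;> simp; ring

/-- The central automorphism `g ↦ g z ^ (k c)` of `S`. -/
def thA (k : K) (hk : star k = k) : MulAut (UG K) where
  toFun g := ⟨thV k hk g.v, g.x⟩
  invFun g := ⟨(thV k hk)⁻¹ g.v, g.x⟩
  left_inv g := UG.ext (ga_inv_apply _ _) rfl
  right_inv g := UG.ext (ga_apply_inv _ _) rfl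
  map_mul' g h := by apply UG.ext4 <;> simp; ring

theorem thA_jv (k : K) (hk) (v : Hm K) : thA k hk (jv v) = jv (thV k hk v) := rfl

end Gen

/-- The field with four elements. -/
abbrev K4 : Type := Cl.GF4

instance : StarRing K4 where
  star x := x * x
  star_involutive := show ∀ x : K4, x * x * (x * x) = x by decide +kernel
  star_mul := by decide +kernel
  star_add := by decide +kernel

instance : UF K4 := ⟨inferInstance, by decide +kernel⟩

theorem qq_K4 : qq K4 = 2 := by
  have := card_K K4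
  rw [Cl.natCard_GF4] at this
  exact (Nat.pow_left_injective two_ne_zero (this.symm.trans (by norm_num : 4 = 2 ^ 2)))

/-- A primitive cube root of unity. -/
def om : K4 := Cl.TF.prim Cl.gf4

instance : DecidableEq (Hm K4) := fun v w =>
  decidable_of_iff (v.a = w.a ∧ v.b = w.b ∧ v.c = w.c) Hm.ext_iff.symm

instance : DecidableEq (UG K4) := fun g h => decidable_of_iff (g.v = h.v ∧ g.x = h.x) UG.ext_iff.symm

namespace T2

/-- The basis. -/
def ev (y : K4) : Hm K4 := uu y ⟨0, 0, 1, by simp, by simp⟩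

theorem uu_ev (x y : K4) : uu x (ev y) = ev (x + y) := by rw [ev, ← ga_mul, uu_mul, ev]

/-- The vector with code `n`. -/
def dec (n : ℕ) : Hm K4 :=
  (bif n.testBit 0 then ev 0 else 0) + (bif n.testBit 1 then ev 1 else 0) +
    (bif n.testBit 2 then ev om else 0) + (bif n.testBit 3 then ev (om + 1) else 0)

/-- The code of a vector. -/
def enc (v : Hm K4) : ℕ :=
  (v.a.code ^^^ v.c.code) + 2 * (v.a.code ^^^ v.b.code / 2) + 4 * (v.a.code ^^^ v.b.code % 2) +
    8 * (v.a.code ^^^ v.b.code / 2 ^^^ v.b.code % 2)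

theorem hm_forall {P : Hm K4 → Prop} : (∀ v, P v) ↔ ∀ n < 16, P (dec n) := by
  refine ⟨fun h n _ => h _, fun h v => ?_⟩
  have : ∀ (a b c : K4) (ha : star a = a) (hc : star c = c), ∃ n < 16, dec n = ⟨a, b, c, ha, hc⟩ := by
    decide +kernel
  obtain ⟨n, hn, e⟩ := this v.a v.b v.c v.ha v.hc
  exact (show dec n = v from e) ▸ h n hn

instance {P : Hm K4 → Prop} [DecidablePred P] : Decidable (∀ v, P v) := decidable_of_iff _ hm_forall.symm

theorem ug_forall {P : UG K4 → Prop} : (∀ g, P g) ↔ ∀ v x, P ⟨v, x⟩ :=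
  ⟨fun h _ _ => h _, fun h g => h g.v g.x⟩

instance {P : UG K4 → Prop} [DecidablePred P] : Decidable (∀ g, P g) := decidable_of_iff _ ug_forall.symm

theorem dec_enc : ∀ v, dec (enc v) = v := by decide +kernel
theorem enc_lt : ∀ v, enc v < 16 := by decide +kernel
theorem enc_dec : ∀ n < 16, enc (dec n) = n := by decide +kernel
theorem enc_add : ∀ v w, enc (v + w) = enc v ^^^ enc w := by decide +kernel
theorem enc_zero : enc 0 = 0 := by decide +kernel
theorem enc_inj {v w : Hm K4} (h : enc v = enc w) : v = w := by rw [← dec_enc v, h, dec_enc]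

/-- Four columns. -/
structure M4 where
  c0 : ℕ
  c1 : ℕ
  c2 : ℕ
  c3 : ℕ
  deriving DecidableEq

def ap (M : M4) (n : ℕ) : ℕ :=
  (bif n.testBit 0 then M.c0 else 0) ^^^ (bif n.testBit 1 then M.c1 else 0) ^^^
    (bif n.testBit 2 then M.c2 else 0) ^^^ (bif n.testBit 3 then M.c3 else 0)

def mm (M N : M4) : M4 := ⟨ap M N.c0, ap M N.c1, ap M N.c2, ap M N.c3⟩

def one4 : M4 := ⟨1, 2, 4, 8⟩

/-- The code of an additive automorphism. -/
def rep (g : GA (Hm K4)) : M4 := ⟨enc (g (ev 0)), enc (g (ev 1)), enc (g (ev om)), enc (g (ev (om + 1)))⟩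

theorem ap_rep' (g : GA (Hm K4)) (n : ℕ) : ap (rep g) n = enc (g (dec n)) := by
  simp only [dec, map_add, enc_add, ap, rep]
  cases n.testBit 0 <;> cases n.testBit 1 <;> cases n.testBit 2 <;> cases n.testBit 3 <;>
    simp only [cond_true, cond_false, map_zero, enc_zero]

theorem ap_rep (g : GA (Hm K4)) (v : Hm K4) : ap (rep g) (enc v) = enc (g v) := by rw [ap_rep', dec_enc]

theorem rep_mul (g h : GA (Hm K4)) : rep (g * h) = mm (rep g) (rep h) := by
  simp only [mm, rep.eq_1 h, ap_rep, ← ga_mul]; rfl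

theorem rep_one : rep 1 = one4 := by decide +kernel

theorem rep_inj {g h : GA (Hm K4)} (e : rep g = rep h) : g = h :=
  LinearEquiv.ext fun v => enc_inj (by rw [← ap_rep, e, ap_rep])

theorem ap_xor (M : M4) (m n : ℕ) : ap M (m ^^^ n) = ap M m ^^^ ap M n := by
  simp only [ap, Nat.testBit_xor]
  cases m.testBit 0 <;> cases m.testBit 1 <;> cases m.testBit 2 <;> cases m.testBit 3 <;>
    cases n.testBit 0 <;> cases n.testBit 1 <;> cases n.testBit 2 <;> cases n.testBit 3 <;>
    simp [Nat.xor_left_comm, Nat.xor_comm]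

theorem dec_xor (m n : ℕ) : dec (m ^^^ n) = dec m + dec n := by
  have : ∀ a b c d a' b' c' d' : Bool,
      (bif a ^^ a' then ev 0 else 0) + (bif b ^^ b' then ev 1 else 0) + (bif c ^^ c' then ev om else 0) +
        (bif d ^^ d' then ev (om + 1) else 0) =
      (bif a then ev 0 else 0) + (bif b then ev 1 else 0) + (bif c then ev om else 0) +
        (bif d then ev (om + 1) else 0) + ((bif a' then ev 0 else 0) + (bif b' then ev 1 else 0) +
        (bif c' then ev om else 0) + (bif d' then ev (om + 1) else 0)) := by decide +kernel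
  simp only [dec, Nat.testBit_xor]
  exact this ..

/-- `M` and `N` are inverse to each other. -/
def Ok (M N : M4) : Prop :=
  ∀ n < 16, ap M n < 16 ∧ ap N n < 16 ∧ ap M (ap N n) = n ∧ ap N (ap M n) = n

instance (M N : M4) : Decidable (Ok M N) := by unfold Ok; infer_instance

/-- The automorphism with code `M`. -/
def ofM (M N : M4) (h : Ok M N) : GA (Hm K4) :=
  mkA (fun v => dec (ap M (enc v))) (fun v => dec (ap N (enc v)))
    (fun v w => by rw [enc_add, ap_xor, dec_xor])
    (fun v => by rw [enc_dec _ (h _ (enc_lt v)).1, (h _ (enc_lt v)).2.2.2, dec_enc])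
    (fun v => by rw [enc_dec _ (h _ (enc_lt v)).2.1, (h _ (enc_lt v)).2.2.1, dec_enc])

theorem ofM_apply (M N : M4) (h : Ok M N) (v : Hm K4) : ofM M N h v = dec (ap M (enc v)) := rfl

/-- The codes of the elements `rho x i`. -/
def rc (x : K4) (i : Bool) : M4 :=
  if x = 1 then bif i then ⟨8, 4, 6, 9⟩ else ⟨4, 8, 5, 10⟩
  else if x = om then bif i then ⟨2, 3, 8, 12⟩ else ⟨8, 6, 2, 9⟩
  else if x = om + 1 then bif i then ⟨4, 10, 5, 2⟩ else ⟨2, 3, 12, 4⟩ else one4

theorem rc_ok : ∀ x i, Ok (rc x i) (mm (rc x i) (rc x i)) := by decide +kernel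

end T2

/-- The two elements of order three (up to inverses) centralizing `uu x` and inverted by `P`. -/
def rho (x : K4) (i : Bool) : GA (Hm K4) := T2.ofM _ _ (T2.rc_ok x i)

/-- `(a, b, c) ↦ (a, ω b, c)`. -/
def tauV : GA (Hm K4) := T2.ofM ⟨1, 4, 8, 2⟩ ⟨1, 8, 2, 4⟩ (by decide +kernel)

theorem tauV_apply : ∀ v, (tauV v).a = v.a ∧ (tauV v).b = om * v.b ∧ (tauV v).c = v.c := by decide +kernel

/-- The standard form of the system of `L₄(2)`. -/
structure StB (F : FS K4) : Prop where
  r1 : rho 1 false ∈ XF F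
  r2 : rho om true ∈ XF F
  w : HasW F

end Cfsg.Agent.U4F
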