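import Mathlib
import Cfsg.Agent.U4X.TDefs

/-!
# The case `q = 2`: finite checks in `GL₄(2)`
-/

set_option autoImplicit false
set_option linter.unusedSectionVars false
set_option linter.unusedVariables false

namespace Cfsg.Agent.U4F

open Cfsg Cfsg.FusionSystem Cfsg.Agent.Fus Subgroup

variable {K : Type*} [Field K] [StarRing K] [UF K] {p : ℕ} [Fact p.Prime] [CharP K p]

namespace T2

/-- The codes of the elements of `P`. -/
def uc (x : K4) : M4 :=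
  if x = 1 then ⟨2, 1, 8, 4⟩ else if x = om then ⟨4, 8, 1, 2⟩ else if x = om + 1 then ⟨8, 4, 2, 1⟩ else one4

theorem rep_uu : ∀ x, rep (uu x) = uc x := by decide +kernel

theorem rep_rho : ∀ x i, rep (rho x i) = rc x i := by decide +kernel

theorem rep_tau : rep tauV = ⟨1, 4, 8, 2⟩ := by decide +kernel

/-- Words in `g, h, uu 1, uu ω`. -/
def wM (M N : M4) : List ℕ → M4
  | [] => one4
  | i :: w => mm (if i = 0 then M else if i = 1 then N else if i = 2 then uc 1 else uc om) (wM M N w)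

def wG (g h : GA (Hm K4)) : List ℕ → GA (Hm K4)
  | [] => 1
  | i :: w => (if i = 0 then g else if i = 1 then h else if i = 2 then uu 1 else uu om) * wG g h w

theorem rep_wG (g h : GA (Hm K4)) (w : List ℕ) : rep (wG g h w) = wM (rep g) (rep h) w := by
  induction w with
  | nil => exact rep_one
  | cons i w ih => rw [wG, wM, rep_mul, ih]; split_ifs <;> simp only [rep_uu]

theorem wG_mem {Y : Subgroup (GA (Hm K4))} (hP : PP K4 ≤ Y) {g h : GA (Hm K4)} (hg : g ∈ Y) (hh : h ∈ Y)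
    (w : List ℕ) : wG g h w ∈ Y := by
  induction w with
  | nil => exact one_mem _
  | cons i w ih =>
    refine mul_mem ?_ ih
    split_ifs
    exacts [hg, hh, hP ⟨_, rfl⟩, hP ⟨_, rfl⟩]

/-- A `2`-element which cannot lie in a group with Sylow subgroup `P`. -/
def Bad (M : M4) : Prop :=
  mm (mm M M) (mm M M) = one4 ∧
    (mm M M ≠ one4 ∨ (∀ x, ∃ y, mm M (uc x) = mm (uc y) M) ∧ ∀ x, M ≠ uc x)

instance (M : M4) : Decidable (Bad M) := by unfold Bad; infer_instance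

theorem not_bad {X : Subgroup (GA (Hm K4))} (hs : Syl 2 (PP K4) X) {w : GA (Hm K4)} (hw : w ∈ X) :
    ¬ Bad (rep w) := by
  rintro ⟨h1, h2⟩
  rw [← rep_mul, ← rep_mul, ← rep_one] at h1
  have h4 : w ^ 2 ^ 2 = 1 := by
    rw [← rep_inj h1, show 2 ^ 2 = 4 from rfl]; simp only [pow_succ, pow_zero, one_mul, mul_assoc]
  have hp : IsPGroup 2 (zpowers w) := by
    rintro ⟨_, n, rfl⟩
    refine ⟨2, Subtype.ext ?_⟩
    change (w ^ n) ^ 2 ^ 2 = 1
    rw [← zpow_natCast, ← zpow_mul, mul_comm, zpow_mul, zpow_natCast, h4, one_zpow]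
  rcases h2 with h2 | ⟨h2, h3⟩
  · obtain ⟨k, -, e⟩ := GT.Tr.exists_conj_le_sylowIn (isPGroup_PP K4 2) hs.idx hp (zpowers_le.2 hw)
    obtain ⟨x, hx⟩ := e w (mem_zpowers w)
    refine h2 ?_
    have : k * (w * w) * k⁻¹ = 1 := by
      rw [show k * (w * w) * k⁻¹ = k * w * k⁻¹ * (k * w * k⁻¹) by group, hx, uu_mul,
        CharTwo.add_self_eq_zero, uu_zero]
    rw [← rep_mul, conj_eq_one_iff.1 this, rep_one]
  · have hn : w ∈ normalizer (PP K4 : Set (GA (Hm K4))) := mem_normalizer_fintype (by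
      rintro _ ⟨x, rfl⟩
      obtain ⟨y, e⟩ := h2 x
      rw [← rep_uu, ← rep_uu, ← rep_mul, ← rep_mul] at e
      exact ⟨y, by rw [rep_inj e, mul_inv_cancel_right]⟩)
    obtain ⟨x, e⟩ := GT.Tr.le_of_sylowIn_le hs.idx
      (IsPGroup.to_sup_of_normal_left' (isPGroup_PP K4 2) hp (zpowers_le.2 hn)) le_sup_left
      (sup_le hs.le (zpowers_le.2 hw)) (mem_sup_right (mem_zpowers w))
    exact h3 x (by rw [e, rep_uu])

def Inj (M : M4) : Prop := ∀ n < 16, ap M n = 0 → n = 0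

instance (M : M4) : Decidable (Inj M) := by unfold Inj; infer_instance

theorem inj_rep (g : GA (Hm K4)) : Inj (rep g) := fun n hn e => by
  rw [ap_rep', ← enc_zero] at e
  rw [← enc_dec n hn, (map_eq_zero_iff g g.injective).1 (enc_inj e), enc_zero]

/-- The alternatives for `M`, with `R` the element of order three. -/
def Alt (M R : M4) (W W' : List (List ℕ)) : Prop := (∃ w ∈ W, wM M M w = R) ∧ ∃ w ∈ W', wM R R w = M

instance (M R : M4) (W W') : Decidable (Alt M R W W') := by unfold Alt; infer_instance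

theorem Alt.mem {X : Subgroup (GA (Hm K4))} (hP : PP K4 ≤ X) {g r : GA (Hm K4)} (hg : g ∈ X) {W W'}
    (h : Alt (rep g) (rep r) W W') : r ∈ X ∧ ∀ Y : Subgroup (GA (Hm K4)), PP K4 ≤ Y → r ∈ Y → g ∈ Y := by
  obtain ⟨⟨w, -, e⟩, w', -, e'⟩ := h
  rw [← rep_wG] at e e'
  exact ⟨rep_inj e ▸ wG_mem hP hg hg w, fun Y h1 h2 => rep_inj e' ▸ wG_mem h1 h2 h2 w'⟩

def cm (x : K4) (r s : ℕ) : M4 :=
  if x = 1 then ⟨r, ap (uc x) r, s, ap (uc x) s⟩
  else if x = om then ⟨r, s, ap (uc x) r, ap (uc x) s⟩ else ⟨r, s, ap (uc x) s, ap (uc x) r⟩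

theorem chk1 : ∀ x : K4, x ≠ 0 → ∀ r < 16, ∀ s < 16, Inj (cm x r s) → (∃ y, cm x r s = uc y) ∨
    (∃ w ∈ [[0], [0, 2], [0, 3]], Bad (wM (cm x r s) (cm x r s) w)) ∨
    ∃ i, Alt (cm x r s) (rc x i) [[0, 0], [0], [0, 2], [0, 3], [0, 2, 0, 2], [0, 2, 3], [0, 3, 0, 3]]
      [[0], [0, 0], [0, 2], [0, 3], [0, 0, 2], [0, 0, 3], [0, 2, 3], [0, 0, 2, 3]] := by
  decide +kernel

theorem chk2 : ∀ x : K4, x ≠ 0 → ∀ y : K4, y ≠ 0 → ∀ i j, (x = y ↔ i = j) ∨
    ∃ w ∈ [[0, 1, 2], [0, 1, 3]], Bad (wM (rc x i) (rc y j) w) := by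
  decide +kernel

def nm (a b : K4) (r : ℕ) : M4 := ⟨r, ap (uc a) r, ap (uc b) r, ap (uc (a + b)) r⟩

theorem chk3 : ∀ a b : K4, ∀ r < 16, Inj (nm a b r) → (∃ y, nm a b r = uc y) ∨
    (∃ w ∈ [[0], [0, 0, 0]], Bad (wM (nm a b r) (nm a b r) w)) ∨
    Alt (nm a b r) ⟨1, 4, 8, 2⟩ [[0], [0, 0], [0, 2], [0, 3], [2, 0], [0, 0, 2], [0, 0, 3], [0, 3, 0]]
      [[0], [0, 0], [0, 2], [0, 3], [2, 0], [0, 0, 2], [0, 0, 3], [0, 2, 0]] := by
  decide +kernel

theorem k4_cases : ∀ x : K4, x ≠ 0 → x = 1 ∨ x = om ∨ x = om + 1 := by decide +kernel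

theorem enc_step {g : GA (Hm K4)} {x y : K4} (e : g * uu x = uu y * g) (z : K4) :
    enc (g (ev (x + z))) = ap (uc y) (enc (g (ev z))) := by
  rw [← uu_ev, ← ga_mul, e, ga_mul, ← ap_rep, rep_uu]

end T2

open T2

theorem cent_cases {X : Subgroup (GA (Hm K4))} (hs : Syl 2 (PP K4) X) {x : K4} (hx : x ≠ 0)
    {g : GA (Hm K4)} (hg : g ∈ X) (e : g * uu x = uu x * g) :
    g ∈ PP K4 ∨ ∃ i, rho x i ∈ X ∧ ∀ Y : Subgroup (GA (Hm K4)), PP K4 ≤ Y → rho x i ∈ Y → g ∈ Y := by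
  obtain ⟨s, h1, h2⟩ : ∃ s < 16, rep g = cm x (enc (g (ev 0))) s := by
    have h := enc_step e
    rcases k4_cases x hx with rfl | rfl | rfl
    · refine ⟨_, enc_lt (g (ev om)), ?_⟩
      rw [cm, if_pos rfl, ← h, ← h, add_zero, add_comm 1 om, rep]
    · refine ⟨_, enc_lt (g (ev 1)), ?_⟩
      rw [cm, if_neg (by decide +kernel), if_pos rfl, ← h, ← h, add_zero, rep]
    · refine ⟨_, enc_lt (g (ev 1)), ?_⟩
      rw [cm, if_neg (by decide +kernel), if_neg (by decide +kernel), ← h, ← h, add_zero,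
        show om + 1 + 1 = om by decide +kernel, rep]
  have := chk1 x hx _ (enc_lt (g (ev 0))) s h1 (h2 ▸ inj_rep g)
  rw [← h2] at this
  rcases this with ⟨y, e⟩ | ⟨w, -, e⟩ | ⟨i, e⟩
  · exact Or.inl ⟨y, rep_inj (by rw [e, rep_uu])⟩
  · exact absurd (rep_wG g g w ▸ e) (not_bad hs (wG_mem hs.le hg hg w))
  · exact Or.inr ⟨i, Alt.mem hs.le hg (rep_rho x i ▸ e)⟩

theorem rho_bad {X : Subgroup (GA (Hm K4))} (hs : Syl 2 (PP K4) X) {x y : K4} (hx : x ≠ 0) (hy : y ≠ 0)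
    {i j : Bool} (h1 : rho x i ∈ X) (h2 : rho y j ∈ X) : x = y ↔ i = j := by
  refine (chk2 x hx y hy i j).resolve_right fun ⟨w, _, e⟩ => not_bad hs (wG_mem hs.le h1 h2 w) ?_
  rwa [rep_wG, rep_rho, rep_rho]

theorem norm_cases {X : Subgroup (GA (Hm K4))} (hs : Syl 2 (PP K4) X) {g : GA (Hm K4)} (hg : g ∈ X)
    (hn : g ∈ normalizer (PP K4 : Set (GA (Hm K4)))) :
    g ∈ PP K4 ∨ tauV ∈ X ∧ ∀ Y : Subgroup (GA (Hm K4)), PP K4 ≤ Y → tauV ∈ Y → g ∈ Y := by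
  obtain ⟨a, ha⟩ := (mem_normalizer_iff.1 hn (uu 1)).1 ⟨_, rfl⟩
  obtain ⟨b, hb⟩ := (mem_normalizer_iff.1 hn (uu om)).1 ⟨_, rfl⟩
  rw [mul_inv_eq_iff_eq_mul] at ha hb
  have hab : g * uu (om + 1) = uu (a + b) * g := by
    rw [← uu_mul, ← mul_assoc, hb, mul_assoc, ha, ← mul_assoc, uu_mul, add_comm]
  have h2 : rep g = nm a b (enc (g (ev 0))) := by
    rw [nm, ← enc_step ha, ← enc_step hb, ← enc_step hab, add_zero, add_zero, add_zero, rep]
  have := chk3 a b _ (enc_lt (g (ev 0))) (h2 ▸ inj_rep g)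
  rw [← h2] at this
  rcases this with ⟨y, e⟩ | ⟨w, -, e⟩ | e
  · exact Or.inl ⟨y, rep_inj (by rw [e, rep_uu])⟩
  · exact absurd (rep_wG g g w ▸ e) (not_bad hs (wG_mem hs.le hg hg w))
  · exact Or.inr (Alt.mem hs.le hg (rep_tau ▸ e))

theorem rho_comm : ∀ x i, rho x i * uu x = uu x * rho x i := fun x i => rep_inj (by
  rw [rep_mul, rep_mul, rep_rho, rep_uu]; revert x i; decide +kernel)

theorem rho_sq_ne : ∀ x, x ≠ 0 → ∀ i, rho x i * rho x i ≠ 1 := fun x hx i e => by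
  have := congrArg rep e
  rw [rep_mul, rep_rho, rep_one] at this
  clear e
  revert x i; decide +kernel

theorem tau_rho : ∀ x i, tauV * rho x i = rho (om * x) i * tauV := fun x i => rep_inj (by
  rw [rep_mul, rep_mul, rep_rho, rep_rho, rep_tau]; revert x i; decide +kernel)

theorem tau_uu : ∀ x, tauV * uu x = uu (om * x) * tauV := fun x => rep_inj (by
  rw [rep_mul, rep_mul, rep_uu, rep_uu, rep_tau]; revert x; decide +kernel)

theorem th_rho : ∀ x i, thV 1 (star_one _) * rho x i = rho x (!i) * thV 1 (star_one _) := fun x i => rep_inj (by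
  rw [rep_mul, rep_mul, rep_rho, rep_rho]; revert x i; decide +kernel)

theorem tau_eq : tauV = uu (om + 1) * ll (om + 1) * uu (om + 1) * (wv K4)⁻¹ :=
  eq_mul_inv_of_mul_eq (rep_inj (by decide +kernel))

end Cfsg.Agent.U4F
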