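import Mathlib
import Cfsg.Agent.U4X.TDefs
import Cfsg.Agent.U4F.Real

/-!
# The fusion system of `L₄(2)`
-/

set_option autoImplicit false
set_option linter.unusedSectionVars false
set_option linter.unusedVariables false

namespace Cfsg.Agent.U4F

open Cfsg Cfsg.FusionSystem Cfsg.Agent.Fus Subgroup

namespace TM

open T2

/-- The columns. -/
def col (M : M4) : Fin 4 → ℕ := ![M.c0, M.c1, M.c2, M.c3]

/-- A bit as an element of the prime field. -/
def bt (b : Bool) : ZMod 2 := bif b then 1 else 0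

/-- The matrix with the given columns. -/
def toMat (M : M4) : Matrix (Fin 4) (Fin 4) (ZMod 2) := Matrix.of fun i k => bt ((col M k).testBit i)

theorem bt_ap (M : M4) (n i : ℕ) : bt ((ap M n).testBit i) =
    bt (M.c0.testBit i) * bt (n.testBit 0) + bt (M.c1.testBit i) * bt (n.testBit 1) +
      bt (M.c2.testBit i) * bt (n.testBit 2) + bt (M.c3.testBit i) * bt (n.testBit 3) := by
  have h : ∀ (b : Bool) (c : ℕ), (bif b then c else 0).testBit i = (c.testBit i && b) := by
    intro b c; cases b <;> simp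
  simp only [ap, Nat.testBit_xor, h]
  generalize M.c0.testBit i = a0
  generalize M.c1.testBit i = a1
  generalize M.c2.testBit i = a2
  generalize M.c3.testBit i = a3
  generalize n.testBit 0 = b0
  generalize n.testBit 1 = b1
  generalize n.testBit 2 = b2
  generalize n.testBit 3 = b3
  revert a0 a1 a2 a3 b0 b1 b2 b3
  decide +kernel

theorem col_mm (M N : M4) (k : Fin 4) : col (mm M N) k = ap M (col N k) := by
  fin_cases k <;> rfl

theorem toMat_mm (M N : M4) : toMat (mm M N) = toMat M * toMat N := by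
  ext i k
  rw [Matrix.mul_apply, Fin.sum_univ_four]
  simp only [toMat, Matrix.of_apply, col_mm, bt_ap]
  rfl

theorem toMat_one : toMat one4 = 1 := by decide +kernel

/-- The invertible matrix with code `M`. -/
def un (M N : M4) (h1 : mm M N = one4) (h2 : mm N M = one4) : GL (Fin 4) (ZMod 2) :=
  ⟨toMat M, toMat N, by rw [← toMat_mm, h1, toMat_one], by rw [← toMat_mm, h2, toMat_one]⟩

/-- The code of the image of `g`. -/
def jc (g : UG K4) : M4 :=
  ⟨1, g.x.code % 2 + 2, g.v.b.code % 2 + 2 * g.v.c.code + 4,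
    (g.v.b.code % 2 * (g.x.code / 2) + g.v.a.code + g.v.b.code % 2 + g.v.b.code / 2) % 2 +
      2 * ((g.v.c.code * (g.x.code / 2) + g.v.b.code / 2) % 2) + 4 * (g.x.code / 2) + 8⟩

theorem jc_mul : ∀ g h, jc (g * h) = mm (jc g) (jc h) := by decide +kernel

theorem jc_one : jc 1 = one4 := by decide +kernel

/-- The embedding in `GL₄(2)`. -/
def j : UG K4 →* GL (Fin 4) (ZMod 2) := MonoidHom.mk'
  (fun g => un (jc g) (jc g⁻¹) (by rw [← jc_mul, mul_inv_cancel, jc_one])
    (by rw [← jc_mul, inv_mul_cancel, jc_one]))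
  fun g h => Units.ext (by
    show toMat (jc (g * h)) = toMat (jc g) * toMat (jc h)
    rw [jc_mul, toMat_mm])

theorem j_val (g : UG K4) : (j g : Matrix (Fin 4) (Fin 4) (ZMod 2)) = toMat (jc g) := rfl

theorem j_inj : Function.Injective j := by
  rw [injective_iff_map_eq_one]
  have : ∀ g, toMat (jc g) = 1 → g = 1 := by decide +kernel
  exact fun g h => this g (congrArg Units.val h)

theorem j_conj {M N : M4} {h1 h2} {x y : UG K4} (h : mm (jc y) M = mm M (jc x)) :
    j y = un M N h1 h2 * j x * (un M N h1 h2)⁻¹ := by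
  refine eq_mul_inv_of_mul_eq (Units.ext ?_)
  show toMat (jc y) * toMat M = toMat M * toMat (jc x)
  rw [← toMat_mm, ← toMat_mm, h]

theorem card_GL : Nat.card (GL (Fin 4) (ZMod 2)) = 20160 := by
  rw [Matrix.card_GL_field, ZMod.card, Fin.prod_univ_four]
  rfl

theorem index_j : ¬ 2 ∣ j.range.index := by
  have h1 : Nat.card j.range = 64 := by
    rw [← Nat.card_congr (MonoidHom.ofInjective j_inj).toEquiv, card_UG, qq_K4]; rfl
  have h2 := j.range.card_mul_index
  rw [h1, card_GL] at h2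
  omega

theorem c1 : ∀ v, mm (jc (jv (rho 1 false v))) ⟨1, 2, 8, 12⟩ = mm ⟨1, 2, 8, 12⟩ (jc (jv v)) := by
  decide +kernel

theorem c2 : ∀ v, mm (jc (jv (rho om true v))) ⟨2, 3, 4, 8⟩ = mm ⟨2, 3, 4, 8⟩ (jc (jv v)) := by
  decide +kernel

theorem c3 : ∀ g : UG K4, g.v.c = 0 → mm (jc (wq g)) ⟨1, 5, 3, 14⟩ = mm ⟨1, 5, 3, 14⟩ (jc g) := by
  decide +kernel

end TM

variable {K : Type*} [Field K] [StarRing K] [UF K] {p : ℕ} [Fact p.Prime] [CharP K p]

theorem exists_stB : ∃ F : FS K4, Rz 2 F ∧ F.IsSaturated 2 ∧ StB F := by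
  obtain ⟨F, hF⟩ := R.exists_realizes TM.j TM.j_inj
  have hs : IsPGroup 2 (⊤ : Subgroup (UG K4)) :=
    IsPGroup.of_card (n := 6) (by rw [card_top, card_UG, qq_K4])
  have e : ∀ x ∈ Vs K4, x = jv x.v := fun x hx => UG.ext rfl hx
  refine ⟨F, R.rz_of hF TM.index_j, hF.isSaturated hs ?_, ?_, ?_, ?_⟩
  · rw [relIndex_top_right, img_eq_map, ← MonoidHom.range_eq_map]
    exact TM.index_j
  · refine mem_XF.2 (hF.mor_iff.2 ⟨le_top, fun _ _ => mem_top _,
      TM.un ⟨1, 2, 8, 12⟩ ⟨1, 2, 12, 4⟩ (by decide) (by decide), mem_top _, fun x hx => ?_⟩)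
    conv_rhs => rw [e x hx]
    exact TM.j_conj (TM.c1 _)
  · refine mem_XF.2 (hF.mor_iff.2 ⟨le_top, fun _ _ => mem_top _,
      TM.un ⟨2, 3, 4, 8⟩ ⟨3, 1, 4, 8⟩ (by decide) (by decide), mem_top _, fun x hx => ?_⟩)
    conv_rhs => rw [e x hx]
    exact TM.j_conj (TM.c2 _)
  · exact hF.mor_iff.2 ⟨le_top, fun _ _ => mem_top _,
      TM.un ⟨1, 5, 3, 14⟩ ⟨1, 5, 3, 14⟩ (by decide) (by decide), mem_top _, fun x hx =>
        TM.j_conj (TM.c3 x hx)⟩

end Cfsg.Agent.U4F
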