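import Mathlib
import Cfsg.Agent.U4X.TDefs
import Cfsg.Agent.U4F.VStd

/-!
# Prime `q`: the opposite root group on `V`; twisting
-/

set_option autoImplicit false
set_option linter.unusedSectionVars false
set_option linter.unusedVariables false

namespace Cfsg.Agent.U4F

open Cfsg Cfsg.FusionSystem Cfsg.Agent.Fus Subgroup

variable {K : Type*} [Field K] [StarRing K] [UF K] {p : ℕ} [Fact p.Prime] [CharP K p]

/-- A complement to `Z` in `V` is the graph of a linear form. -/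
theorem tv_graph {H : AddSubgroup (Hm K)} (h1 : ∀ w ∈ H, w.b = 0 → w.c = 0 → w = 0)
    (h2 : Nat.card H = qq K ^ 3) (hp : ∀ t : K, star t = t → ∃ n : ℕ, t = n) :
    ∃ e k, star k = k ∧ ∀ w ∈ H, w.a = e * star w.b + star e * w.b + k * w.c := by
  have uq : ∀ w ∈ H, ∀ w' ∈ H, w.b = w'.b → w.c = w'.c → w = w' := fun w hw w' hw' e1 e2 =>
    sub_eq_zero.1 (h1 _ (sub_mem hw hw') (by rw [sub_b, e1, sub_self]) (by rw [sub_c, e2, sub_self]))
  have hs := ((Nat.bijective_iff_injective_and_card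
    fun w : H => ((w.1.b, ⟨w.1.c, w.1.hc⟩) : K × {a : K // star a = a})).2
    ⟨fun w w' e => Subtype.ext (uq _ w.2 _ w'.2 (congrArg Prod.fst e) (Subtype.mk.inj (congrArg Prod.snd e))), by
      rw [h2, Nat.card_prod, card_K K]
      change _ = _ * qq K
      ring⟩).2
  choose σ hσ using fun b : K => hs (b, ⟨0, star_zero K⟩)
  have sb : ∀ b, (σ b).1.b = b := fun b => congrArg Prod.fst (hσ b)
  have sc : ∀ b, (σ b).1.c = 0 := fun b => Subtype.mk.inj (congrArg Prod.snd (hσ b))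
  obtain ⟨u, hu⟩ := hs (0, ⟨1, star_one K⟩)
  have ub : u.1.b = 0 := congrArg Prod.fst hu
  have uc : u.1.c = 1 := Subtype.mk.inj (congrArg Prod.snd hu)
  obtain ⟨e, he⟩ := lin_F (φ := fun b => (σ b).1.a)
    (fun x y => by
      rw [uq _ (σ (x + y)).2 _ (add_mem (σ x).2 (σ y).2) (by simp [sb]) (by simp [sc]), add_a])
    (fun t x ht => by
      obtain ⟨n, rfl⟩ := hp t ht
      obtain ⟨a1, a2, a3⟩ := hm_nsmul n (σ x).1
      rw [uq _ (σ (n * x)).2 _ (nsmul_mem (σ x).2 n) (by rw [a2, sb, sb]) (by rw [a3, sc, sc, mul_zero]), a1])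
    fun x => (σ x).1.ha
  refine ⟨e, u.1.a, u.1.ha, fun w hw => ?_⟩
  obtain ⟨n, hn⟩ := hp w.c w.hc
  obtain ⟨a1, a2, a3⟩ := hm_nsmul n u.1
  have := congrArg Hm.a (uq w hw _ (add_mem (σ w.b).2 (nsmul_mem u.2 n)) (by rw [add_b, a2, sb, ub]; simp)
    (by rw [add_c, a3, sc, uc, hn]; simp))
  rw [this, add_a, a1, he, hn, mul_comm (n : K)]

theorem ll_mem_prime {X : Subgroup (GA (Hm K))} (hs : Syl p (PP K) X) (ht : TI (PP K) X)
    (hn : ∃ g ∈ X, g ∉ normalizer (PP K : Set (GA (Hm K))))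
    (hp : ∀ t : K, star t = t → ∃ n : ℕ, t = n) :
    ∃ k hk, ∀ y, (thV k hk)⁻¹ * ll y * thV k hk ∈ X := by
  have h := ch_PP hs ht
  obtain ⟨g, hg, hn⟩ := hn
  have hR : Cj X (PP K) _ := ⟨g, hg, rfl⟩
  obtain ⟨e, k, hk, hw⟩ := tv_graph (H := comA ⊤ ((PP K).map (MulAut.conj g).toMonoidHom))
    (fun w hw e1 e2 => AddSubgroup.mem_bot.1 (h.tan (Cj.refl X _) hR (fun e => hn (map_conj_eq_iff.1 e.symm)) ▸
      AddSubgroup.mem_inf.2 ⟨mem_fix_PP.2 ⟨e1, e2⟩, hw⟩)) (h.good_cj hR).cH hp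
  have hk' : star (-(k + e * star e)) = -(k + e * star e) := by simp [hk, mul_comm]
  refine ⟨_, hk', fun y => ?_⟩
  set θ := thV _ hk' with hθ
  have θc : ∀ s ∈ PP K, θ * s * θ⁻¹ = s := by
    rintro _ ⟨x, rfl⟩
    rw [thV_uu, mul_inv_cancel_right]
  have θN : θ ∈ normalizer (PP K : Set (GA (Hm K))) := mem_normalizer_fintype fun s hs => (θc s hs).symm ▸ hs
  have θP := map_conj_eq_iff.2 θN
  have h' : CH p (qq K) (PP K) (X.map (MulAut.conj θ).toMonoidHom) := by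
    refine ch_PP ⟨θP ▸ map_mono hs.le, ?_⟩ ?_
    · have := relIndex_map_map_of_injective (f := (MulAut.conj θ).toMonoidHom) (PP K) X (MulAut.conj θ).injective
      rw [θP] at this
      exact this ▸ hs.idx
    · rintro _ ⟨a, ha, rfl⟩ s hs h1 h2
      refine mul_mem (mul_mem θN (ht a ha s hs h1 ?_)) (Subgroup.inv_mem _ θN)
      have h3 := (mem_normalizer_iff.1 (Subgroup.inv_mem _ θN) _).1 h2
      have e : θ⁻¹ * (θ * a * θ⁻¹ * (θ * s * θ⁻¹) * (θ * a * θ⁻¹)⁻¹) * θ⁻¹⁻¹ = a * s * a⁻¹ := by group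
      rw [θc s hs] at e
      exact e ▸ h3
  have gX : θ * (uu (-e) * g) * θ⁻¹ ∈ X.map (MulAut.conj θ).toMonoidHom :=
    cnta_mem' (mul_mem (hs.le ⟨_, rfl⟩) hg)
  refine cnta_mem.1 (VStd.ll_mem' h' ⟨_, gX, rfl⟩ (fun e1 => hn ?_) (fun v hv => ?_) y)
  · have h1 := map_conj_eq_iff.1 e1.symm
    have h2 := mul_mem (mul_mem (Subgroup.inv_mem _ (mul_mem θN (le_normalizer (H := PP K) ⟨-e, rfl⟩))) h1) θN
    rwa [show (θ * uu (-e))⁻¹ * (θ * (uu (-e) * g) * θ⁻¹) * θ = g by group] at h2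
  · rw [← ga_apply_inv (θ * (uu (-e) * g) * θ⁻¹) v] at hv ⊢
    generalize (θ * (uu (-e) * g) * θ⁻¹)⁻¹ v = u at hv ⊢
    have h1 : θ⁻¹ u ∈ comA ⊤ (PP K) := VStd.com_norm (Subgroup.inv_mem _ θN) (mem_comA_map.1 hv)
    have h2 := hw _ ((mem_comA_map (g := g)).2 h1)
    rw [ga_mul, ga_mul, ga_mul, thV_a, uu_a, uu_c, h2, star_neg]
    ring

theorem Tw.mem_XF {F F' : FS K} {κ : MulAut (UG K)} (h : Tw F F' κ) {t : GA (Hm K)}
    (ht : ∀ v, κ (jv v) = jv (t v)) {g : GA (Hm K)} : t * g * t⁻¹ ∈ XF F' ↔ g ∈ XF F := by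
  have e : img κ (Vs K) = Vs K := by
    ext y
    rw [h.mem_img le_top]
    exact ⟨fun h => by simpa using aut_V κ h.2, fun h => ⟨mem_top _, aut_V κ⁻¹ h⟩⟩
  have := h.mor_iff_of_compat (P := Vs K) (f := fun x => jv (g x.v)) (f' := fun x => jv ((t * g * t⁻¹) x.v))
    le_top (fun _ _ => mem_top _) fun x hx => by
      rw [eq_jv hx, ht, ht, jv_v, jv_v, ga_mul, ga_mul, ga_inv_apply]
  rwa [e] at this

/-- The map on `S` induced by a field isomorphism. -/
def tv_map {K' : Type*} [Field K'] [StarRing K'] (e : K ≃+* K') (he : ∀ x, e (star x) = star (e x)) :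
    UG K →* UG K' :=
  MonoidHom.mk' (fun g => ⟨⟨e g.v.a, e g.v.b, e g.v.c, by rw [← he, g.v.ha], by rw [← he, g.v.hc]⟩, e g.x⟩)
    fun g h => by apply UG.ext4 <;> simp [he]

/-- Transfer along a field isomorphism. -/
theorem rz_of_ringEquiv {K' : Type*} [Field K'] [StarRing K'] [UF K'] [CharP K' p] (e : K ≃+* K')
    (h : ∀ F' : FS K', F'.IsSaturated p → F'.core = ⊥ → Rz p F') (F : FS K) (hF : F.IsSaturated p)
    (hc : F.core = ⊥) : Rz p F := by
  have hq : qq K = qq K' := Nat.pow_left_injective two_ne_zero (by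
    simp only [← card_K]; exact Nat.card_congr e.toEquiv)
  have he : ∀ x, e (star x) = star (e x) := fun x => by rw [star_eq_pow, star_eq_pow, map_pow, hq]
  have he' : ∀ x, e.symm (star x) = star (e.symm x) := fun x => by rw [star_eq_pow, star_eq_pow, map_pow, hq]
  have l : ∀ g, tv_map e.symm he' (tv_map e he g) = g := fun g => by
    apply UG.ext4 <;> exact e.symm_apply_apply _
  have r : ∀ g, tv_map e he (tv_map e.symm he' g) = g := fun g => by
    apply UG.ext4 <;> exact e.apply_symm_apply _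
  obtain ⟨F', hi⟩ := F.exists_isIsoVia (S' := ⊤) (θ := tv_map e he) (η := tv_map e.symm he')
    (fun x _ y _ => map_mul _ x y) (eq_top_iff.2 fun y _ => r y ▸ mem_img_of_mem (mem_top _)) fun x _ => l x
  obtain ⟨G, _, _, j, h1, h2⟩ := h F' (hi.isSaturated hF (isPGroup_top K p)) (hi.core_eq_bot hc)
  refine ⟨G, _, inferInstance, j.comp (tv_map e he), hi.realizes h1, ?_⟩
  rwa [MonoidHom.range_comp, MonoidHom.range_eq_top.2 fun y => ⟨_, r y⟩, ← MonoidHom.range_eq_map]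

end Cfsg.Agent.U4F
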