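import Mathlib
import Cfsg.Agent.U4X.TFin
import Cfsg.Agent.U4X.TV
import Cfsg.Agent.U4X.TE2
import Cfsg.Agent.U4X.TM
import Cfsg.Agent.U4F.DgB

/-!
# The case `q = 2`
-/

set_option autoImplicit false
set_option linter.unusedSectionVars false
set_option linter.unusedVariables false

namespace Cfsg.Agent.U4F

open Cfsg Cfsg.FusionSystem Cfsg.Agent.Fus Subgroup

variable {K : Type*} [Field K] [StarRing K] [UF K] {p : ℕ} [Fact p.Prime] [CharP K p]

namespace T2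

variable {F F' : FS K4}

theorem om_facts : om ≠ 0 ∧ om + 1 ≠ 0 ∧ 1 ≠ om ∧ 1 ≠ om + 1 ∧ om ≠ om + 1 ∧ om * om = om + 1 ∧
    om * (om + 1) = 1 ∧ om * star om = 1 := by decide +kernel

theorem P_le (F : FS K4) : PP K4 ≤ XF F := by rintro _ ⟨x, rfl⟩; exact uu_mem_X F x

theorem no_three (hF : F.IsSaturated 2) (h : ∀ x, x ≠ 0 → ∃ i, rho x i ∈ XF F) : False := by
  obtain ⟨h0, h1, h2, h3, h4, -⟩ := om_facts
  obtain ⟨i, hi⟩ := h 1 one_ne_zero
  obtain ⟨j, hj⟩ := h om h0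
  obtain ⟨k, hk⟩ := h _ h1
  have e1 := (rho_bad (syl_X hF) one_ne_zero h0 hi hj).not.1 h2
  have e2 := (rho_bad (syl_X hF) one_ne_zero h1 hi hk).not.1 h3
  have e3 := (rho_bad (syl_X hF) h0 h1 hj hk).not.1 h4
  revert i j k; simp

theorem not_ess (hF : F.IsSaturated 2) {x : K4} (hx : x ≠ 0) {i : Bool} (h : rho x i ∈ XF F) :
    ¬ F.IsEssential 2 (Vs K4) := fun hV => no_three hF fun y hy => by
  obtain ⟨g, hg, e⟩ := conj_of_ess hF qq_K4 hV hx hy
  refine (cent_cases (syl_X hF) hy (mul_mem (mul_mem hg h) (inv_mem hg)) ?_).elim ?_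
    fun ⟨j, hj, _⟩ => ⟨j, hj⟩
  · rw [← e, show g * rho x i * g⁻¹ * (g * uu x * g⁻¹) = g * (rho x i * uu x) * g⁻¹ by group, rho_comm]
    group
  · rintro ⟨z, hz⟩
    refine (rho_sq_ne x hx i (conj_eq_one_iff.1 (show g * (rho x i * rho x i) * g⁻¹ = 1 from ?_))).elim
    rw [show g * (rho x i * rho x i) * g⁻¹ = g * rho x i * g⁻¹ * (g * rho x i * g⁻¹) by group, hz, uu_mul,
      CharTwo.add_self_eq_zero, uu_zero]

theorem no_tau (hF : F.IsSaturated 2) {x : K4} (hx : x ≠ 0) {i : Bool} (h : rho x i ∈ XF F) :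
    tauV ∉ XF F := fun ht => no_three hF fun y hy => by
  have k : ∀ z, rho z i ∈ XF F → rho (om * z) i ∈ XF F := fun z hz => by
    rw [← mul_inv_cancel_right (rho (om * z) i) tauV, ← tau_rho]
    exact mul_mem (mul_mem ht hz) (inv_mem ht)
  have : ∀ x : K4, x ≠ 0 → ∀ y : K4, y ≠ 0 → y = x ∨ y = om * x ∨ y = om * (om * x) := by decide +kernel
  rcases this x hx y hy with rfl | rfl | rfl
  exacts [⟨i, h⟩, ⟨i, k _ h⟩, ⟨i, k _ (k _ h)⟩]

theorem norm_P (hF : F.IsSaturated 2) {x : K4} (hx : x ≠ 0) {i : Bool} (h : rho x i ∈ XF F) :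
    ∀ g ∈ XF F, g ∈ normalizer (PP K4 : Set (GA (Hm K4))) → g ∈ PP K4 := fun g hg hn =>
  (norm_cases (syl_X hF) hg hn).resolve_right fun e => no_tau hF hx h e.1

theorem stB_le (hF : F.IsSaturated 2) (hF' : F'.IsSaturated 2) (h : StB F) (h' : StB F') : F ≤ F' := by
  refine le_two hF hF' qq_K4 h.w h'.w fun g hg hc => ?_
  rcases hc with hc | hc | ⟨x, hx, hc⟩
  · exact P_le F' (norm_P hF one_ne_zero h.r1 g hg hc)
  · exact (not_ess hF one_ne_zero h.r1 hc).elim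
  rcases cent_cases (syl_X hF) hx hg hc with e | ⟨i, hi, e⟩
  · exact P_le F' e
  refine e _ (P_le F') ?_
  rcases k4_cases x hx with rfl | rfl | rfl
  · rw [(rho_bad (syl_X hF) hx hx hi h.r1).1 rfl]; exact h'.r1
  · rw [(rho_bad (syl_X hF) hx hx hi h.r2).1 rfl]; exact h'.r2
  · refine (no_three hF fun y hy => ?_).elim
    rcases k4_cases y hy with rfl | rfl | rfl
    exacts [⟨_, h.r1⟩, ⟨_, h.r2⟩, ⟨_, hi⟩]

theorem ti_of (hF : F.IsSaturated 2) (h : ∀ x, x ≠ 0 → ∀ i, rho x i ∉ XF F) : TI (PP K4) (XF F) := by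
  rintro g hg _ ⟨x, rfl⟩ h1 ⟨y, e⟩
  have hy : y ≠ 0 := by
    rintro rfl
    exact h1 (conj_eq_one_iff.1 (e.trans uu_zero))
  refine mem_normalizer_fintype ?_
  rintro _ ⟨z, rfl⟩
  refine (cent_cases (syl_X hF) hy (mul_mem (mul_mem hg (uu_mem_X F z)) (inv_mem hg)) ?_).resolve_right
    fun ⟨i, hi, _⟩ => h y hy i hi
  rw [← e, show g * uu z * g⁻¹ * (g * uu x * g⁻¹) = g * (uu z * uu x) * g⁻¹ by group, uu_mul, add_comm,
    ← uu_mul]
  group

theorem tau_mem (hL : HasL F) : tauV ∈ XF F := by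
  rw [tau_eq]
  exact mul_mem (mul_mem (mul_mem (uu_mem_X F _) (hL _)) (uu_mem_X F _)) (inv_mem (eq_wv_mem hL))

theorem stA_le (hF : F.IsSaturated 2) (hF' : F'.IsSaturated 2) (hL : HasL F) (hW : HasW F) (hL' : HasL F')
    (hW' : HasW F') : F ≤ F' := by
  refine le_two hF hF' qq_K4 hW hW' fun g hg _ => ?_
  have k : ∀ g ∈ XF F, g ∈ normalizer (PP K4 : Set (GA (Hm K4))) → g ∈ XF F' := fun g hg hn =>
    (norm_cases (syl_X hF) hg hn).elim (fun e => P_le F' e) fun e => e.2 _ (P_le F') (tau_mem hL')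
  rcases (ch_PP (syl_X hF) (ti_of hF fun x hx i h => no_tau hF hx h (tau_mem hL))).two (eq_wv_mem hL)
    (wv_not_mem K4) g hg with h | ⟨_, ⟨x, rfl⟩, h⟩
  · exact k g hg h
  · have := k _ (mul_mem (inv_mem (mul_mem (uu_mem_X F x) (eq_wv_mem hL))) hg) h
    exact (mul_mem_cancel_left (inv_mem (mul_mem (uu_mem_X F' x) (eq_wv_mem hL')))).1 this

theorem exists_del : ∃ δ : MulAut (UG K4), IsD om 1 (RingEquiv.refl K4) δ :=
  exists_D _ om_facts.1 one_ne_zero (star_one _)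

theorem exists_stA : ∃ F : FS K4, Rz 2 F ∧ F.IsSaturated 2 ∧ HasL F ∧ HasW F := by
  obtain ⟨δ, h1⟩ := exists_del
  have hr : (RingEquiv.refl K4).trans (RingEquiv.refl K4) = RingEquiv.refl K4 := rfl
  have h0 : IsD 1 1 (RingEquiv.refl K4) (1 : MulAut (UG K4)) := R.isD_one
  have h2 : IsD (om + 1) 1 (RingEquiv.refl K4) (δ * δ : MulAut (UG K4)) := by
    simpa [om_facts, hr] using h1.mul h1
  have h3 : δ ^ 3 = 1 := by
    rw [pow_succ', pow_two]
    exact IsD.ext (by simpa [om_facts, hr] using h1.mul h2) h0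
  obtain ⟨F, a, b, -, c⟩ := real_ex (p := 2) (zpowers δ) (zpowers_le.2 (mem_Dg.2 ⟨_, _, _, h1⟩))
    (fun e => by
      rw [Nat.card_zpowers] at e
      exact absurd (e.trans (orderOf_dvd_of_pow_eq_one h3)) (by norm_num))
    ⟨fun l hl => by
      have : ∀ l : K4, l ≠ 0 → (l * star l)⁻¹ = 1 ∧ l * l ≠ 0 := by decide +kernel
      rw [(this l hl).1]
      rcases k4_cases _ (this l hl).2 with e | e | e <;> rw [e]
      exacts [⟨_, one_mem _, h0⟩, ⟨_, mem_zpowers δ, h1⟩, ⟨_, mul_mem (mem_zpowers δ) (mem_zpowers δ), h2⟩],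
    fun m hm sm => by
      obtain rfl := (fix_of_two qq_K4 sm).resolve_left hm
      exact ⟨_, one_mem _, by simpa using h0⟩⟩
  exact ⟨F, a, b, c⟩

/-- Systems containing two given elements `rho` are realizable. -/
def Gd (x : K4) (i : Bool) (y : K4) (j : Bool) : Prop :=
  ∀ F : FS K4, F.IsSaturated 2 → F.core = ⊥ → rho x i ∈ XF F → rho y j ∈ XF F → Rz 2 F

theorem Gd.tw {x y x' y' : K4} {i j i' j' : Bool} (h : Gd x' i' y' j') {κ : MulAut (UG K4)}
    {t : GA (Hm K4)} (ht : ∀ v, κ (jv v) = jv (t v)) (e1 : t * rho x i = rho x' i' * t)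
    (e2 : t * rho y j = rho y' j' * t) : Gd x i y j := fun F hF hc h1 h2 => by
  obtain ⟨F', hT⟩ := exists_tw F κ
  refine (h F' (hT.isSaturated hF (isPGroup_top K4 2)) (hT.core_eq_bot hc) ?_ ?_).of_iso hT
  · rw [← mul_inv_cancel_right (rho x' i') t, ← e1]; exact (hT.mem_XF ht).2 h1
  · rw [← mul_inv_cancel_right (rho y' j') t, ← e2]; exact (hT.mem_XF ht).2 h2

theorem Gd.th {x y : K4} {i j : Bool} (h : Gd x (!i) y (!j)) : Gd x i y j :=
  h.tw (thA_jv 1 (star_one _)) (th_rho ..) (th_rho ..)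

theorem Gd.tau {x y : K4} {i j : Bool} (h : Gd (om * x) i (om * y) j) : Gd x i y j := by
  obtain ⟨δ, h1⟩ := exists_del
  refine h.tw (κ := δ) (fun v => ?_) (tau_rho ..) (tau_rho ..)
  obtain ⟨a, b, c⟩ := tauV_apply v
  apply UG.ext4 <;> simp [h1.x, h1.a, h1.b, h1.c, a, b, c, om_facts]

theorem gd_base : Gd 1 false om true := fun F hF hc h1 h2 => by
  obtain ⟨F', a, b, c⟩ := exists_stB
  have h : StB F := ⟨h1, h2, hasW2 hF qq_K4 (ess_Q hF hc)⟩
  exact le_antisymm' (stB_le hF b h c) (stB_le b hF c h) ▸ a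

theorem gd_om {x : K4} (hx : x ≠ 0) (i : Bool) : Gd x i (om * x) (!i) := by
  obtain ⟨-, -, -, -, -, e1, e2, -⟩ := om_facts
  have h : Gd x false (om * x) true := by
    rcases k4_cases x hx with rfl | rfl | rfl
    · rw [mul_one]; exact gd_base
    · refine Gd.tau (Gd.tau ?_)
      rw [e1, e2, mul_one]; exact gd_base
    · refine Gd.tau ?_
      rw [e2, mul_one]; exact gd_base
  cases i
  exacts [h, Gd.th h]

theorem rz_K4 (F : FS K4) (hF : F.IsSaturated 2) (hc : F.core = ⊥) : Rz 2 F := by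
  have hE : ∀ y, y ≠ 0 → F.IsEssential 2 (Ex y) → ∃ j, rho y j ∈ XF F := fun y hy h => by
    obtain ⟨g, hg, e, hn⟩ := nn_E hF qq_K4 hy h
    obtain ⟨j, hj, -⟩ := (cent_cases (syl_X hF) hy hg e).resolve_left hn
    exact ⟨j, hj⟩
  by_cases hT : ∀ x, x ≠ 0 → ∀ i, rho x i ∉ XF F
  · have hV : F.IsEssential 2 (Vs K4) := by
      by_contra hV
      exact core_ne_Q hF hV (fun y hy h => (hE y hy h).elim (hT y hy)) hc
    obtain ⟨k, hk, e⟩ := ll_mem_prime (syl_X hF) (ti_of hF hT) (nn_X hF hV) fun t ht =>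
      (fix_of_two qq_K4 ht).elim (fun e => ⟨0, by simp [e]⟩) fun e => ⟨1, by simp [e]⟩
    obtain ⟨F', hT⟩ := exists_tw F (thA k hk)
    have hF' := hT.isSaturated hF (isPGroup_top K4 2)
    have hL : HasL F' := fun y => by
      simpa [mul_assoc] using (hT.mem_XF (thA_jv k hk)).2 (e y)
    have hW := hasW2 hF' qq_K4 (ess_Q hF' (hT.core_eq_bot hc))
    obtain ⟨F₀, a, b, c, d⟩ := exists_stA
    obtain rfl := le_antisymm' (stA_le hF' b hL hW c d) (stA_le b hF' c d hL hW)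
    exact a.of_iso hT
  push Not at hT
  obtain ⟨x, hx, i, hi⟩ := hT
  obtain ⟨y, hy, h1, h2⟩ : ∃ y, y ≠ 0 ∧ F.IsEssential 2 (Ex y) ∧ y ≠ x := by
    by_contra hn
    push Not at hn
    exact core_ne_E hF qq_K4 (hasW2 hF qq_K4 (ess_Q hF hc)) (norm_P hF hx hi) (not_ess hF hx hi) hx hn hc
  obtain ⟨j, hj⟩ := hE y hy h1
  have hij := (rho_bad (syl_X hF) hy hx hj hi).not.1 h2
  have : ∀ x : K4, x ≠ 0 → ∀ y : K4, y ≠ 0 → y ≠ x → y = om * x ∨ x = om * y := by decide +kernel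
  rcases this x hx y hy h2 with rfl | rfl
  · exact gd_om hx i F hF hc hi (Bool.eq_not.2 hij ▸ hj)
  · exact gd_om hy j F hF hc hj (Bool.eq_not.2 (Ne.symm hij) ▸ hi)

end T2

theorem rz2 (h : qq K = 2) (F : FS K) (hF : F.IsSaturated p) (hc : F.core = ⊥) : Rz p F := by
  obtain ⟨n, e⟩ := qq_pow K p
  obtain rfl : p = 2 := (Nat.prime_dvd_prime_iff_eq Fact.out Nat.prime_two).1
    (by rw [← h, e]; exact dvd_pow_self p n.succ_ne_zero)
  obtain ⟨φ⟩ := Cl.nonempty_ringEquiv_GF4' K (by rw [card_K, h]; norm_num)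
  exact rz_of_ringEquiv φ T2.rz_K4 F hF hc

end Cfsg.Agent.U4F
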