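import Mathlib
import Cfsg.Agent.U4X.Defs
import Cfsg.Agent.U4F.Norm
import Cfsg.Agent.U4F.YB2
import Cfsg.Agent.U4F.QL1

/-!
# The image of Aut_F(Q) and the parameters of Aut_F(S)
-/

set_option autoImplicit false
set_option linter.unusedSectionVars false
set_option linter.unusedVariables false

namespace Cfsg.Agent.U4X

open Cfsg Cfsg.FusionSystem Cfsg.Agent.Fus Subgroup Cfsg.Agent.U4F Cfsg.Agent.Cl
open scoped commutatorElement

variable {F F' : FS K9} {M : GA M9} {f : UG K9 → UG K9} {l l' β : K9} {e e' : Bool}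

theorem ye_ind (hf : F.Iso (Qs K9) (Qs K9) f) {g : UG K9} (hg : g ∈ Qs K9) :
    ((f (ybL (g.x, g.v.b))).x, (f (ybL (g.x, g.v.b))).v.b) = ((f g).x, (f g).v.b) := by
  have h := (yb_mem_Z (ybL_mem (g.x, g.v.b)) hg).2 rfl
  rw [← yb_mem_Z (hf.maps _ (ybL_mem _)) (hf.maps _ hg), ← hf.mor.map_inv (ybL_mem _),
    ← hf.mor.map_mul (Subgroup.inv_mem _ (ybL_mem _)) hg]
  exact iso_Q_Z hf h

theorem exists_eInd (hf : F.Iso (Qs K9) (Qs K9) f) : ∃ M, EInd F f M := by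
  obtain ⟨f', h1, h2, h3⟩ := hf.inv
  refine ⟨mkA (fun v => ((f (ybL v)).x, (f (ybL v)).v.b)) (fun v => ((f' (ybL v)).x, (f' (ybL v)).v.b))
    (fun v w => ?_) (fun v => ?_) fun v => ?_, hf, fun g hg => (ye_ind hf hg).symm⟩
  · rw [← yb_mul (hf.maps _ (ybL_mem w)), ← hf.mor.map_mul (ybL_mem v) (ybL_mem w),
      ← ye_ind hf (mul_mem (ybL_mem v) (ybL_mem w)), yb_mul (ybL_mem w)]
    rfl
  · beta_reduce
    rw [ye_ind h1 (hf.maps _ (ybL_mem v)), h2 _ (ybL_mem v)]; rfl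
  · beta_reduce
    rw [ye_ind hf (h1.maps _ (ybL_mem v)), h3 _ (ybL_mem v)]; rfl

theorem EInd.comp {f' : UG K9 → UG K9} {M' : GA M9} (h : EInd F f M) (h' : EInd F f' M') :
    EInd F (fun g => f (f' g)) (M * M') :=
  ⟨h.iso.comp h'.iso, fun g hg => by
    beta_reduce; rw [h.ind _ (h'.iso.maps g hg), h'.ind g hg, ga_mul]⟩

theorem EInd.inv (h : EInd F f M) : ∃ f', EInd F f' M⁻¹ := by
  obtain ⟨f', h1, h2, h3⟩ := h.iso.inv
  refine ⟨f', h1, fun g hg => ?_⟩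
  rw [← ga_inv_apply M ((f' g).x, _), ← h.ind _ (h1.maps g hg), h3 g hg]

theorem ye_of_q (h : QInd F f M) : EInd F f M := ⟨h.iso, h.ind⟩

theorem mem_YE : M ∈ YE F ↔ ∃ f, EInd F f M := by
  refine ⟨fun h => ?_, fun h => subset_closure h⟩
  induction h using closure_induction with
  | mem _ h => exact h
  | one => exact ⟨_, ye_of_q (mem_YF.1 (one_mem (YF F))).choose_spec⟩
  | mul _ _ _ _ h h' => exact ⟨_, h.choose_spec.comp h'.choose_spec⟩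
  | inv _ _ h => exact h.choose_spec.inv

theorem YF_le_YE (F : FS K9) : YF F ≤ YE F := fun _ h =>
  mem_YE.2 ⟨_, ye_of_q (mem_YF.1 h).choose_spec⟩

theorem ye_Z_ext {z z' : UG K9} (h : z ∈ Zs K9) (h' : z' ∈ Zs K9) (e : z.v.a = z'.v.a) : z = z' :=
  UG.ext4 e (h.2.2.trans h'.2.2.symm) (h.2.1.trans h'.2.1.symm) (h.1.trans h'.1.symm)

theorem mem_YF_of (hM : M ∈ YE F) (h : ∀ v w, BB (M v) (M w) = BB v w) : M ∈ YF F := by
  obtain ⟨f, hf⟩ := mem_YE.1 hM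
  refine mem_YF.2 ⟨f, hf.iso, fun z hz => ?_, hf.ind⟩
  obtain ⟨b, hb⟩ := tr_surj (x₀ := (1 : K9)) one_ne_zero z.v.ha
  obtain ⟨a1, a2⟩ := yb_comm (ybL_mem ((1 : K9), (0 : K9))) (ybL_mem (0, b))
  have a3 := (yb_comm (hf.iso.maps _ (ybL_mem ((1 : K9), (0 : K9)))) (hf.iso.maps _ (ybL_mem (0, b)))).2
  rw [← hf.iso.mor.mulOn.map_commutatorElement (ybL_mem _) (ybL_mem _), hf.ind _ (ybL_mem _),
    hf.ind _ (ybL_mem _), h, ← a2] at a3
  have e : z = ⁅ybL ((1 : K9), (0 : K9)), ybL (0, b)⁆ := ye_Z_ext hz a1 (by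
    rw [a2, ← hb]; simp [BB, ybL])
  rw [e]
  exact ye_Z_ext (iso_Q_Z hf.iso a1) a1 a3

theorem ye_iso {α : MulAut (UG K9)} (hα : α ∈ AF F) : F.Iso (Qs K9) (Qs K9) α :=
  ⟨(mem_AF.1 hα).mono le_top, fun _ => aut_Q α, fun y hy =>
    ⟨α⁻¹ y, aut_Q _ hy, MulAut.apply_inv_self _ α y⟩⟩

theorem ye_of_af {α : MulAut (UG K9)} (hα : α ∈ AF F)
    (h : ∀ g ∈ Qs K9, ((α g).x, (α g).v.b) = M (g.x, g.v.b)) : M ∈ YE F :=
  mem_YE.2 ⟨α, ye_iso hα, h⟩

theorem db_mem (h : dd ∈ AF F) : db ∈ YE F := ye_of_af h fun g _ => by rw [dd_apply]; rfl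

theorem ng_mem (h : dd ∈ AF F) : ng ∈ YF F := by
  have e : db * db = ng :=
    ga_ext4 (by decide +kernel) (by decide +kernel) (by decide +kernel) (by decide +kernel)
  exact mem_YF_of (e ▸ mul_mem (db_mem h) (db_mem h)) fun v w => by simp [ng_apply, BB]

theorem ye_dl_fix (h : l ≠ 0) (e : Bool) {z : UG K9} (hz : z ∈ Zs K9) : dl l e z = z :=
  ye_Z_ext (aut_Z _ hz) hz (by rw [dl_apply h]; rfl)

theorem dm_mem (h : (l, e) ∈ DB F) : dm l e ∈ YF F :=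
  mem_YF.2 ⟨_, ye_iso h.2, fun z hz => ye_dl_fix h.1 e hz, fun g _ => by
    rw [dl_apply h.1, dm_apply h.1]; rfl⟩

theorem rr_mem (F : FS K9) {c : K9} (hc : star c = c) : rr c ∈ YF F :=
  mem_YF.2 ⟨_, by simpa using qInd_conj F (jv ⟨0, 0, -c, by simp, by simp [hc]⟩)⟩

theorem pb_of_norm (hF : F.IsSaturated 3) (hM : M ∈ YF F) (hn : M ∈ normalizer (RR K9 : Set (GA M9)))
    (h : ∀ v, (M v).1 = l * sg e v.1) : (l, e) ∈ PB F := by
  obtain ⟨f, hf⟩ := mem_YF.1 hM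
  obtain ⟨α, hα, k⟩ := ext_Y hF hf hn
  refine ⟨α, hα, fun z hz => (k z (yb_ZQ hz)).trans (hf.fix z hz), fun g => ?_⟩
  have hq : g * (jv ⟨0, 0, g.v.c, by simp, g.v.hc⟩)⁻¹ ∈ Qs K9 := by simp [mem_Qs]
  have h1 := congrArg Prod.fst (hf.ind _ hq)
  rw [← k _ hq, h, map_mul, map_inv] at h1
  simpa [mem_Vs.1 (aut_V α (jv_mem _))] using h1

theorem db_subset_pb (F : FS K9) : DB F ⊆ PB F := fun r h =>
  ⟨_, h.2, fun z hz => ye_dl_fix h.1 _ hz, fun g => by rw [dl_apply h.1]; rfl⟩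

theorem pb_ne (h : (l, e) ∈ PB F) : l ≠ 0 := by
  rintro rfl
  obtain ⟨α, -, -, h⟩ := h
  have := h (α⁻¹ (sx 1))
  rw [MulAut.apply_inv_self] at this
  simp at this

theorem ye_eq_dl {m : K9} {s : K9 ≃+* K9} {δ : MulAut (UG K9)} (h : IsD l m s δ) (hl : l = l')
    (hs : ∀ x, s x = sg e x) (hm : l * star l * m = 1) : δ = dl l' e := by
  subst hl
  obtain rfl : s = sgE e := RingEquiv.ext fun x => (hs x).trans (sgE_apply e x).symm
  obtain rfl : m = nn l := (by decide +kernel : ∀ l m : K9, l * star l * m = 1 → m = nn l) l m hm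
  exact h.ext (isD_dl h.hl e)

theorem ye_z0 : gen 0 ∈ Zs K9 := ⟨rfl, rfl, rfl⟩

theorem ye_g0 : gen 0 = jv ⟨1, 0, 0, by simp, by simp⟩ := rfl

theorem ye_norm {m : K9} {s : K9 ≃+* K9} {δ : MulAut (UG K9)} (h : IsD l m s δ)
    (e : δ (gen 0) = gen 0) : l * star l * m = 1 := by
  have := h.a (gen 0)
  rw [e] at this
  simpa [ye_g0] using this.symm

theorem ye_conj_x (s g : UG K9) : (MulAut.conj s g).x = g.x := by simp

theorem pb_eq_db (h : Nm F) : PB F = DB F := by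
  refine Set.Subset.antisymm ?_ (db_subset_pb F)
  rintro ⟨l, e⟩ hr
  refine ⟨pb_ne hr, ?_⟩
  have hl := pb_ne hr
  obtain ⟨α, hα, hz, hx⟩ := hr
  obtain ⟨s, δ, ⟨hδ, hD⟩, rfl⟩ := h α hα
  obtain ⟨l', m, σ, i⟩ := mem_Dg.1 hD
  have h1 : ∀ x, l' * σ x = l * sg e x := fun x => (i.x (sx x)).symm.trans
    ((ye_conj_x s _).symm.trans (hx (sx x)))
  have h2 : l' = l := by simpa [sg_fix] using h1 1
  have h3 := hz _ ye_z0
  rw [MulAut.mul_apply, MulAut.conj_apply, ← Zs_comm (aut_Z δ ye_z0), mul_inv_cancel_right] at h3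
  exact ye_eq_dl i h2 (fun x => mul_left_cancel₀ hl (h2 ▸ h1 x)) (ye_norm i h3) ▸ hδ

theorem ye_Z_cases {z : UG K9} (hz : z ∈ Zs K9) : z = 1 ∨ z = gen 0 ∨ z = (gen 0)⁻¹ := by
  rcases fix_cases z.v.ha with h | h | h
  · exact Or.inl (ye_Z_ext hz (one_mem _) h)
  · exact Or.inr (Or.inl (ye_Z_ext hz ye_z0 h))
  · exact Or.inr (Or.inr (ye_Z_ext hz (inv_mem ye_z0) (by simp [h, ye_g0])))

theorem ye_aut_z0 (α : MulAut (UG K9)) : α (gen 0) = gen 0 ∨ α (gen 0) = (gen 0)⁻¹ :=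
  (ye_Z_cases (aut_Z α ye_z0)).resolve_left fun h => by
    have := congrArg (·.v.a) ((map_eq_one_iff α α.injective).1 h)
    simp [ye_g0] at this

theorem ye_fix_Z {α : MulAut (UG K9)} (h : α (gen 0) = gen 0) {z : UG K9} (hz : z ∈ Zs K9) :
    α z = z := by
  rcases ye_Z_cases hz with rfl | rfl | rfl
  exacts [map_one α, h, by rw [map_inv, h]]

theorem ye_Kg_fix {k : MulAut (UG K9)} (hk : k ∈ Kg K9) : k (gen 0) = gen 0 := by
  obtain ⟨n, hn⟩ := isPGroup_Kg K9 3 ⟨k, hk⟩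
  have h1 : k ^ 3 ^ n = 1 := congrArg Subtype.val hn
  have h2 : k * k ∈ MulAction.stabilizer (MulAut (UG K9)) (gen 0) := by
    show k (k (gen 0)) = gen 0
    rcases ye_aut_z0 k with h | h
    · rw [h, h]
    · rw [h, map_inv, h, inv_inv]
  obtain ⟨j, hj⟩ : Odd (3 ^ n) := Odd.pow (by decide)
  have h3 : (k * k) ^ j * k ∈ MulAction.stabilizer (MulAut (UG K9)) (gen 0) := by
    rw [← sq, ← pow_mul, ← pow_succ, ← hj, h1]; exact one_mem _
  exact (mul_mem_cancel_left (pow_mem h2 j)).1 h3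

theorem ye_mul_conj (δ : MulAut (UG K9)) (s : UG K9) : δ * MulAut.conj s = MulAut.conj (δ s) * δ :=
  MulEquiv.ext fun g => by simp

theorem nm_of_pb (hF : F.IsSaturated 3) (hd : dd ∈ AF F) (h : PB F ⊆ DB F) : Nm F := by
  have key : ∀ α ∈ AF F, α (gen 0) = gen 0 → ∃ s, ∃ δ ∈ AF F ⊓ Dg K9, α = MulAut.conj s * δ :=
    fun α hα hz => by
      obtain ⟨δ, hD, hk⟩ := aut_decomp α
      obtain ⟨l, m, σ, i⟩ := mem_Dg.1 hD
      obtain ⟨e, rfl⟩ := exists_sgE σ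
      have e1 : ∀ g, α g = δ ((δ⁻¹ * α) g) := fun g => (MulAut.apply_inv_self _ δ _).symm
      have h1 : (l, e) ∈ DB F := h ⟨α, hα, fun z hz' => ye_fix_Z hz hz', fun g => by
        rw [e1, i.x, (hk g).1, sgE_apply]⟩
      have h2 : δ ∈ AF F := ye_eq_dl i rfl (sgE_apply e) (ye_norm i (by
        rw [← ye_Kg_fix hk, ← e1, hz, ye_Kg_fix hk])) ▸ h1.2
      obtain ⟨n, hn⟩ := isPGroup_Kg K9 3 ⟨_, hk⟩
      obtain ⟨s, hs⟩ := inner_of_pow hF (mul_mem (inv_mem h2) hα) (congrArg Subtype.val hn)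
      exact ⟨δ s, δ, ⟨h2, hD⟩, by rw [← ye_mul_conj, ← hs, mul_inv_cancel_left]⟩
  intro α hα
  rcases ye_aut_z0 α with hz | hz
  · exact key α hα hz
  · obtain ⟨s, δ, hδ, e⟩ := key _ (mul_mem (inv_mem hd) hα) (by
      have : dd (gen 0) = (gen 0)⁻¹ := ye_Z_ext (aut_Z _ ye_z0) (inv_mem ye_z0) (by
        rw [dd_apply]; simp [ddf, ye_g0])
      rw [MulAut.mul_apply, hz, ← this, MulAut.inv_apply_self])
    exact ⟨dd s, dd * δ, ⟨mul_mem hd hδ.1, mul_mem dd_mem_Dg hδ.2⟩, by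
      rw [← mul_assoc, ← ye_mul_conj, mul_assoc, ← e, mul_inv_cancel_left]⟩

/-- The elements of `Aut_F(S) ⊓ D`. -/
theorem ad_cases (hd : dd ∈ AF F) {δ : MulAut (UG K9)} (h : δ ∈ AF F ⊓ Dg K9) :
    ∃ r ∈ DB F, δ = dl r.1 r.2 ∨ δ = dd * dl r.1 r.2 := by
  obtain ⟨l, m, σ, i⟩ := mem_Dg.1 h.2
  obtain ⟨e, rfl⟩ := exists_sgE σ
  rcases (by decide +kernel : ∀ l m : K9, l ≠ 0 → m ≠ 0 → star m = m → l * star l * m = 1 ∨
    ii⁻¹ * l * star (ii⁻¹ * l) * ((-1)⁻¹ * m) = 1) l m i.hl i.hm i.sm with k | k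
  · have := ye_eq_dl i rfl (sgE_apply e) k
    exact ⟨(l, e), ⟨i.hl, this ▸ h.1⟩, Or.inl this⟩
  · have i' := isD_dd.inv.mul i
    have := ye_eq_dl i' rfl (sgE_apply e) k
    exact ⟨(_, e), ⟨i'.hl, this ▸ mul_mem (inv_mem hd) h.1⟩, Or.inr (by rw [← this, mul_inv_cancel_left])⟩

theorem af_le (h : Std F) (hd : dd ∈ AF F') (hB : DB F ⊆ DB F') : AF F ≤ AF F' := fun α hα => by
  obtain ⟨s, δ, hδ, rfl⟩ := h.nm α hα
  refine mul_mem (conj_mem_AF F' s) ?_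
  obtain ⟨r, hr, rfl | rfl⟩ := ad_cases h.hd hδ
  exacts [(hB hr).2, mul_mem hd (hB hr).2]

theorem db_mul (h : (l, e) ∈ DB F) (h' : (l', e') ∈ DB F) : (l * sg e l', xor e e') ∈ DB F := by
  have i := (isD_dl h.1 e).mul (isD_dl h'.1 e')
  have k := ye_eq_dl (e := xor e e') i (congrArg (l * ·) (sgE_apply e l')) (fun x => by
    rw [RingEquiv.trans_apply, sgE_apply, sgE_apply]
    cases e <;> cases e' <;> simp) (ye_norm i (by
      rw [MulAut.mul_apply, ye_dl_fix h'.1 _ ye_z0, ye_dl_fix h.1 _ ye_z0]))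
  exact ⟨sgE_apply e l' ▸ i.hl, k ▸ mul_mem h.2 h'.2⟩

theorem db_one (F : FS K9) : ((1 : K9), false) ∈ DB F :=
  ⟨one_ne_zero, ye_eq_dl (e := false) dgb_one rfl (fun _ => rfl) (by simp) ▸ one_mem _⟩

theorem db_neg (hd : dd ∈ AF F) : ((-1 : K9), false) ∈ DB F :=
  ⟨neg_ne_zero.2 one_ne_zero, ye_eq_dl (e := false) (isD_dd.mul isD_dd) ii_ii (fun _ => rfl)
    (by decide +kernel) ▸ mul_mem hd hd⟩

theorem ye_lin {φ : K9 → K9} (ha : ∀ x y, φ (x + y) = φ x + φ y)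
    (hf : ∀ x, star (φ x) = φ x) : ∃ e, ∀ x, φ x = e * star x + star e * x :=
  lin_F ha (fun t x ht => by
    have h0 : φ 0 = 0 := by simpa using ha 0 0
    rcases fix_cases ht with rfl | rfl | rfl
    · rw [zero_mul, zero_mul, h0]
    · rw [one_mul, one_mul]
    · have := ha (-1 * x) x
      rw [neg_one_mul, neg_add_cancel, h0] at this
      rw [neg_one_mul]
      linear_combination -this) hf

/-- An automorphism of `Q` is determined modulo inner ones by its action on `Q / Z` and `Z`. -/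
theorem mor_Q_of (h : QInd F f M) (hM : M ∈ YF F') : F'.Mor (Qs K9) f := by
  obtain ⟨f', hf'⟩ := mem_YF.1 hM
  obtain ⟨k, hk, -, e2⟩ := hf'.inv
  have mp := h.iso.maps
  have fxb : ∀ g ∈ Qs K9, ((k (f g)).x, (k (f g)).v.b) = (g.x, g.v.b) := fun g hg => by
    rw [hk.ind _ (mp g hg), h.ind g hg, ga_inv_apply]
  have fx : ∀ g ∈ Qs K9, (k (f g)).x = g.x := fun g hg => congrArg Prod.fst (fxb g hg)
  have fb : ∀ g ∈ Qs K9, (k (f g)).v.b = g.v.b := fun g hg => congrArg Prod.snd (fxb g hg)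
  have fc : ∀ g ∈ Qs K9, (k (f g)).v.c = 0 := fun g hg => hk.iso.maps _ (mp g hg)
  obtain ⟨φ, hφ⟩ : ∃ φ : UG K9 → K9, ∀ g, φ g = (k (f g)).v.a - g.v.a := ⟨_, fun _ => rfl⟩
  have add : ∀ g ∈ Qs K9, ∀ g' ∈ Qs K9, φ (g * g') = φ g + φ g' := fun g hg g' hh => by
    rw [hφ, hφ, hφ, h.iso.mor.map_mul hg hh, hk.iso.mor.map_mul (mp _ hg) (mp _ hh)]
    simp [fx g hg, fb g' hh, fc g' hh, mem_Qs.1 hh]
    ring
  have dep : ∀ g ∈ Qs K9, ∀ g' ∈ Qs K9, g.x = g'.x → g.v.b = g'.v.b → φ g = φ g' :=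
    fun g hg g' hh a b => by
      have hz : g * g'⁻¹ ∈ Zs K9 := by simp [mem_Zs, a, b, mem_Qs.1 hg, mem_Qs.1 hh]
      rw [← inv_mul_cancel_right g g', add _ hz.2.1 g' hh, hφ (g * g'⁻¹), h.fix _ hz, hk.fix _ hz,
        sub_self, zero_add]
  have sφ : ∀ g, star (φ g) = φ g := fun g => by rw [hφ, star_sub, Hm.ha, Hm.ha]
  have add' : ∀ v w, φ (ybL (v + w)) = φ (ybL v) + φ (ybL w) := fun v w => by
    rw [← add _ (ybL_mem v) _ (ybL_mem w)]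
    exact dep _ (ybL_mem _) _ (mul_mem (ybL_mem v) (ybL_mem w)) (by simp [ybL]) (by simp [ybL])
  obtain ⟨e1, h1⟩ := ye_lin (φ := fun x => φ (ybL (x, 0))) (fun x y => by
    rw [← add']; simp) fun _ => sφ _
  obtain ⟨e2', h2⟩ := ye_lin (φ := fun b => φ (ybL (0, b))) (fun x y => by
    rw [← add']; simp) fun _ => sφ _
  have key : ∀ g ∈ Qs K9, φ g = e1 * star g.x + star e1 * g.x + (e2' * star g.v.b + star e2' * g.v.b) :=
    fun g hg => by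
      rw [← h1, ← h2, ← add']
      exact dep _ hg _ (ybL_mem _) (by simp [ybL]) (by simp [ybL])
  refine (hf'.comp (qInd_conj F' (ybL (e2', -e1)))).iso.mor.congr fun g hg => ?_
  rw [← e2 _ (mp g hg)]
  congr 1
  have a1 := key g hg
  rw [hφ, sub_eq_iff_eq_add] at a1
  rw [conj_eq]
  apply UG.ext4 <;> simp [a1, fx g hg, fb g hg, fc g hg, ybL, mem_Qs.1 hg]
  ring

theorem ug_eq_zero (hF : F.IsSaturated 3) (h : ug 0 β ∈ YF F) : β = 0 := by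
  have h3 : ug 0 β ^ 3 = 1 := LinearEquiv.ext fun v =>
    ql1_pow_fix (p := 3) (by ext <;> simp)
  obtain ⟨c, -, e⟩ : ug 0 β ∈ RR K9 := by
    refine (yh_Y hF).le_RR (T := zpowers (ug 0 β)) ?_ (zpowers_le.2 h) ?_ (mem_zpowers _)
    · rintro ⟨_, n, rfl⟩
      exact ⟨1, Subtype.ext (by
        show (ug 0 β ^ n) ^ 3 ^ 1 = 1
        rw [pow_one, ← zpow_natCast, ← zpow_mul, mul_comm, zpow_mul, zpow_natCast, h3, one_zpow])⟩
    · refine le_trans ?_ (centralizer_le_normalizer _)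
      rintro _ ⟨c, -, rfl⟩ _ ⟨n, rfl⟩
      have : Commute (rr c) (ug 0 β) := LinearEquiv.ext fun v => by
        rw [ga_mul, ga_mul]; ext <;> simp; ring
      exact ((this.zpow_right n).symm :)
  refine (ql1_indep (a := -c) fun x => ?_).2
  have := congrArg (fun g : GA M9 => (g (x, 0)).2) e
  simp only [ug_apply, rr_apply] at this
  linear_combination this

end Cfsg.Agent.U4X
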