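import Mathlib
import Cfsg.Agent.U4X.YE

/-!
# The table of the invariants
-/

set_option autoImplicit false
set_option linter.unusedSectionVars false
set_option linter.unusedVariables false

namespace Cfsg.Agent.U4X

open Cfsg Cfsg.FusionSystem Cfsg.Agent.Fus Subgroup Cfsg.Agent.U4F Cfsg.Agent.Cl

variable {F : FS K9} {γ γ' l : K9} {e : Bool}

namespace Tab

instance decGA : DecidableEq (GA M9) := fun g h =>
  decidable_of_iff (g (1, 0) = h (1, 0) ∧ g (ze, 0) = h (ze, 0) ∧ g (0, 1) = h (0, 1) ∧ g (0, ze) = h (0, ze))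
    ⟨fun e => ga_ext4 e.1 e.2.1 e.2.2.1 e.2.2.2, fun e => by simp [e]⟩

/-- `M` multiplies the form by `-1`. -/
def An (M : GA M9) : Prop := ∀ v w, BB (M v) (M w) = -BB v w

theorem an_jt (γ : K9) : An (jt γ) := fun v w => by
  simp only [jt_apply, jf, BB, nn, star_add, star_mul', star_star, star_ii, star_one]
  linear_combination (γ * star γ + 1) * (v.1 * star w.2 + star v.1 * w.2 - w.1 * star v.2 - star w.1 * v.2) * ii_ii

theorem an_db : An db := fun v w => by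
  simp only [db_apply, BB, star_neg, star_mul', star_ii]
  linear_combination (v.1 * star w.2 + star v.1 * w.2 - w.1 * star v.2 - star w.1 * v.2) * ii_ii

theorem An.inv {M : GA M9} (h : An M) : An M⁻¹ := fun v w => by
  rw [← neg_eq_iff_eq_neg, ← h, ga_apply_inv, ga_apply_inv]

theorem mem_four {A B C D : GA M9} (hA : A ∈ YE F) (hB : B ∈ YE F) (hC : C ∈ YE F) (hD : D ∈ YE F)
    (a : An A) (b : An B) (c : An C) (d : An D) : A * B * C * D ∈ YF F :=
  mem_YF_of (mul_mem (mul_mem (mul_mem hA hB) hC) hD) fun v w => by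
    simp only [ga_mul]
    rw [a, b, c, d, neg_neg, neg_neg]

/-- A decidable form of normalizing `RR`. -/
def Nr (W : GA M9) : Prop := ∀ c, star c = c → ∃ d, star d = d ∧ W * rr c = rr d * W

instance (W : GA M9) : Decidable (Nr W) := by unfold Nr; infer_instance

theorem Nr.mem {W : GA M9} (h : Nr W) : W ∈ normalizer (RR K9 : Set (GA M9)) :=
  mem_normalizer_fintype (by
    rintro _ ⟨c, hc, rfl⟩
    obtain ⟨d, hd, e⟩ := h c hc
    exact ⟨d, hd, by rw [e, mul_inv_cancel_right]⟩)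

theorem c1 : ∀ γ γ' : K9, nn (γ - γ') = 1 →
    jt (-γ - γ') = rr 1 * (jt γ * (rr 1 * jt γ' * rr (-1)) * (jt γ)⁻¹) * rr (-1) := by decide +kernel

theorem c2 : ∀ γ γ' : K9, nn (γ - γ') = -1 → Nr (jt γ * jt γ' * (jt γ)⁻¹ * db⁻¹) ∧
    ∃ β, jt γ * jt γ' * (jt γ)⁻¹ * db⁻¹ = dm (ii * (γ - γ')) true * ug 0 β ∧ (β = 0 → nn γ = nn γ') := by
  decide +kernel

theorem c3 : ∀ γ γ' : K9, nn (γ - γ') = 1 → Nr (db * jt γ * jt γ' * jt (-γ - γ')) ∧
    ∃ α β, db * jt γ * jt γ' * jt (-γ - γ') = dm (-(ii * (γ - γ'))) true * ug α β := by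
  decide +kernel

theorem c4 : ∀ (l : K9) (e : Bool) (γ : K9), l ≠ 0 → jt (act l e γ) = dm l e * jt γ * (dm l e)⁻¹ ∨
    jt (act l e γ) = ng * (dm l e * jt γ * (dm l e)⁻¹) := by decide +kernel

theorem mem_DB (h : Std F) {W : GA M9} (hW : W ∈ YF F) (hn : Nr W) (hl : l ≠ 0) {α β : K9}
    (e' : W = dm l e * ug α β) : (l, e) ∈ DB F :=
  pb_eq_db h.nm ▸ pb_of_norm h.sat hW hn.mem fun v => by rw [e', ga_mul, dm_apply hl]; rfl

theorem nn_cases : ∀ x : K9, x ≠ 0 → (nn x = 1 ∨ nn x = -1) ∧ ii * x ≠ 0 := by decide +kernel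

theorem axis (h : Std F) (h1 : γ ∈ TT F) (h2 : γ' ∈ TT F) (h3 : nn (γ - γ') = -1) :
    (ii * (γ - γ'), true) ∈ DB F ∧ nn γ = nn γ' := by
  obtain ⟨hn, β, e', hβ⟩ := c2 γ γ' h3
  have hW := mem_four h1 h2 (inv_mem h1) (inv_mem (db_mem h.hd)) (an_jt _) (an_jt _) (an_jt _).inv an_db.inv
  have h0 : γ - γ' ≠ 0 := fun e => absurd (e ▸ h3) (by decide +kernel)
  have hD := mem_DB h hW hn (nn_cases _ h0).2 e'
  exact ⟨hD, hβ (ug_eq_zero h.sat ((mul_mem_cancel_left (dm_mem hD)).1 (e' ▸ hW)))⟩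

theorem exists_mask (T : Set K9) : ∃ n < 512, ∀ x, x ∈ T ↔ n.testBit x.code = true := by
  classical
  refine ⟨Nat.ofBits (n := 9) fun i => decide (TF.ofCode gf9 i.1 ∈ T), Nat.ofBits_lt_two_pow _, fun x => ?_⟩
  rw [Nat.testBit_ofBits_lt _ _ (show x.code < 9 from x.code_lt), decide_eq_true_iff]
  exact (congrArg (· ∈ T) (TF.ofCode_code x)).symm.to_iff

def H1 (P : K9 → Prop) : Prop := ∀ γ, P γ → ∀ γ', P γ' → nn (γ - γ') = -1 → nn γ = nn γ'
def H2 (P : K9 → Prop) : Prop := ∀ γ, P γ → ∀ γ', P γ' → nn (γ - γ') = 1 → P (-γ - γ')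
def H3 (P : K9 → Prop) : Prop := ∀ γ, P γ → ∀ γ', P γ' → γ ≠ γ' → ∀ δ, P δ → P (act (ii * (γ - γ')) true δ)
def C1 (P : K9 → Prop) : Prop := (∃ γ, ∀ x, P x ↔ x = γ) ∨ ∃ γ γ', nn (γ - γ') = -1 ∧ ∀ x, P x ↔ x = γ ∨ x = γ'
def C2 (P : K9 → Prop) : Prop := (∀ x, P x ↔ x = 0 ∨ x = 1 ∨ x = -1) ∨ (∀ x, P x ↔ x = 0 ∨ x = ii ∨ x = -ii) ∨
  ∀ x, P x ↔ x = 0 ∨ x = 1 ∨ x = -1 ∨ x = ii ∨ x = -ii

instance (P : K9 → Prop) [DecidablePred P] : Decidable (H1 P) := by unfold H1; infer_instance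
instance (P : K9 → Prop) [DecidablePred P] : Decidable (H2 P) := by unfold H2; infer_instance
instance (P : K9 → Prop) [DecidablePred P] : Decidable (H3 P) := by unfold H3; infer_instance
instance (P : K9 → Prop) [DecidablePred P] : Decidable (C1 P) := by unfold C1; infer_instance
instance (P : K9 → Prop) [DecidablePred P] : Decidable (C2 P) := by unfold C2; infer_instance

def tb (n : ℕ) (x : K9) : Prop := n.testBit x.code = true

instance (n : ℕ) : DecidablePred (tb n) := fun x => instDecidableEqBool _ _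

theorem c5 : ∀ n : ℕ, n < 512 → ¬ H1 (tb n) ∨ ¬ H2 (tb n) ∨ ¬ H3 (tb n) ∨ (¬ ∃ γ, tb n γ) ∨ C2 (tb n) ∨ C1 (tb n) := by
  decide +kernel

def ml (r s : K9 × Bool) : K9 × Bool := (r.1 * sg r.2 s.1, xor r.2 s.2)

theorem ml_mem {r s : K9 × Bool} (h : r ∈ DB F) (h' : s ∈ DB F) : ml r s ∈ DB F := db_mul h h'

theorem split {B B' : Finset (K9 × Bool)} (h1 : ∀ r ∈ B, r ∈ DB F) (h2 : ∀ r ∈ DB F, r ∈ B')
    (h3 : ∀ r ∈ B', r ∈ B ∨ (∃ s ∈ B, ml s r = (ii, false)) ∧ ∃ s ∈ B, ml s (ii, false) = r) :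
    DB F = ↑B ∨ DB F = ↑B' := by
  by_cases h : (ii, false) ∈ DB F
  · refine Or.inr (Set.Subset.antisymm h2 fun r hr => (h3 r hr).elim (h1 r) ?_)
    rintro ⟨-, s, hs, rfl⟩
    exact ml_mem (h1 s hs) h
  · refine Or.inl (Set.Subset.antisymm (fun r hr => (h3 r (h2 r hr)).resolve_right ?_) h1)
    rintro ⟨⟨s, hs, e⟩, -⟩
    exact h (e ▸ ml_mem (h1 s hs) hr)

theorem four (h : Std F) {l : K9} (hl : (l, true) ∈ DB F) :
    ∀ r ∈ ({(1, false), (-1, false), (l, true), (-l, true)} : Finset (K9 × Bool)), r ∈ DB F := by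
  simp only [Finset.mem_insert, Finset.mem_singleton]
  rintro r (rfl | rfl | rfl | rfl)
  exacts [db_one F, db_neg h.hd, hl, by simpa using db_mul (db_neg h.hd) hl]

end Tab

open Tab

theorem t1 (h1 : γ ∈ TT F) (h2 : γ' ∈ TT F) (h3 : nn (γ - γ') = 1) : -γ - γ' ∈ TT F := by
  have a : rr 1 ∈ YE F := YF_le_YE F (rr_mem F (star_one _))
  have b : rr (-1) ∈ YE F := YF_le_YE F (rr_mem F (by simp))
  change jt _ ∈ YE F
  rw [c1 γ γ' h3]
  exact mul_mem (mul_mem a (mul_mem (mul_mem h1 (mul_mem (mul_mem a h2) b)) (inv_mem h1))) b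

theorem t2 (h : Std F) (h1 : γ ∈ TT F) (h2 : γ' ∈ TT F) (h3 : nn (γ - γ') = -1) : nn γ = nn γ' :=
  (axis h h1 h2 h3).2

theorem t3 (h : Std F) (h1 : γ ∈ TT F) (h2 : γ' ∈ TT F) (h3 : γ ≠ γ') : (ii * (γ - γ'), true) ∈ DB F := by
  obtain ⟨h4 | h4, h5⟩ := nn_cases _ (sub_ne_zero.2 h3)
  · obtain ⟨hn, α, β, e'⟩ := c3 γ γ' h4
    simpa using db_mul (db_neg h.hd) (mem_DB h (mem_four (db_mem h.hd) h1 h2 (t1 h1 h2 h4) an_db (an_jt _)
      (an_jt _) (an_jt _)) hn (neg_ne_zero.2 h5) e')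
  · exact (axis h h1 h2 h4).1

theorem t4 (h : Std F) (h1 : γ ∈ TT F) (h2 : (l, e) ∈ DB F) : act l e γ ∈ TT F := by
  have a := YF_le_YE F (dm_mem h2)
  have b : dm l e * jt γ * (dm l e)⁻¹ ∈ YE F := mul_mem (mul_mem a h1) (inv_mem a)
  change jt _ ∈ YE F
  rcases c4 l e γ h2.1 with e' | e' <;> rw [e']
  exacts [b, mul_mem (YF_le_YE F (ng_mem h.hd)) b]

theorem tt_cases (h : Std F) (hn : (TT F).Nonempty) :
    (∃ γ, TT F = {γ}) ∨ (∃ γ γ', nn (γ - γ') = -1 ∧ TT F = {γ, γ'}) ∨ TT F = {0, 1, -1} ∨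
      TT F = {0, ii, -ii} ∨ TT F = {0, 1, -1, ii, -ii} := by
  obtain ⟨n, h1, h2⟩ := exists_mask (TT F)
  have := c5 n h1
  rw [show tb n = (· ∈ TT F) from funext fun x => propext (h2 x).symm] at this
  simpa only [Set.ext_iff, Set.mem_insert_iff, Set.mem_singleton_iff, C1, C2, or_assoc] using
    ((((this.resolve_left (not_not.2 fun _ a _ b => t2 h a b)).resolve_left
      (not_not.2 fun _ a _ b => t1 a b)).resolve_left
      (not_not.2 fun _ a _ b c _ d => t4 h d (t3 h a b c))).resolve_left (not_not.2 hn)).symm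

theorem db_A (h : Std F) (hT : TT F = {ze, -ze}) : DB F = ↑B1 ∨ DB F = ↑B2 := by
  have h1 : ze ∈ TT F := by simp [hT]
  have h2 : -ze ∈ TT F := by simp [hT]
  refine split (four h ?_) (fun r hr => ?_) (by decide +kernel)
  · have := t3 h h2 h1 (by decide +kernel)
    rwa [show -ze - ze = ze by decide +kernel] at this
  · have := t4 (l := r.1) (e := r.2) h h1 hr
    rw [hT, Set.mem_insert_iff, Set.mem_singleton_iff] at this
    exact (by decide +kernel : ∀ r : K9 × Bool, r.1 ≠ 0 → act r.1 r.2 ze = ze ∨ act r.1 r.2 ze = -ze → r ∈ B2)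
      r hr.1 this

theorem db_D (h : Std F) (hT : TT F = {0, 1, -1}) : DB F = ↑B3 ∨ DB F = ↑B4 := by
  have h1 : 1 ∈ TT F := by simp [hT]
  refine split (four h ?_) (fun r hr => ?_) (by decide +kernel)
  · simpa using t3 h h1 (show 0 ∈ TT F by simp [hT]) one_ne_zero
  · have := t4 (l := r.1) (e := r.2) h h1 hr
    rw [hT, Set.mem_insert_iff, Set.mem_insert_iff, Set.mem_singleton_iff] at this
    exact (by decide +kernel : ∀ r : K9 × Bool, r.1 ≠ 0 →
      act r.1 r.2 1 = 0 ∨ act r.1 r.2 1 = 1 ∨ act r.1 r.2 1 = -1 → r ∈ B4) r hr.1 this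

theorem db_E (h : Std F) (hT : TT F = {0, 1, -1, ii, -ii}) : DB F = ↑B5 := by
  have k : ∀ l : K9, l ≠ 0 → (l, true) ∈ DB F := fun l hl => by
    obtain ⟨a, ha, b, hb, h1, rfl⟩ := (by decide +kernel : ∀ l : K9, l ≠ 0 →
      ∃ a ∈ [0, 1, -1, ii, -ii], ∃ b ∈ [0, 1, -1, ii, -ii], a ≠ b ∧ l = ii * (a - b)) l hl
    exact t3 h (by simpa [hT] using ha) (by simpa [hT] using hb) h1
  ext ⟨l, e⟩
  refine ⟨fun hr => by simpa [B5] using hr.1, fun hr => ?_⟩
  have hl : l ≠ 0 := by simpa [B5] using hr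
  cases e
  exacts [by simpa using db_mul (k l hl) (k 1 one_ne_zero), k l hl]

theorem tt_A (h : Std F) (h1 : ze ∈ TT F) (hB : DB F = ↑B1 ∨ DB F = ↑B2) : TT F = {ze, -ze} := by
  have h2 : -ze ∈ TT F := by
    have := t4 (l := ii * ze) (e := true) h h1 (by
      rcases hB with e | e <;> rw [e, Finset.mem_coe] <;> decide +kernel)
    rwa [show act (ii * ze) true ze = -ze by decide +kernel] at this
  have h3 : ze ≠ -ze := by decide +kernel
  rcases tt_cases h ⟨_, h1⟩ with ⟨a, e⟩ | ⟨a, b, -, e⟩ | e | e | e <;> rw [e] at h1 h2 ⊢ <;>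
    simp only [Set.mem_insert_iff, Set.mem_singleton_iff] at h1 h2
  · exact absurd (h1.trans h2.symm) h3
  · rcases h1 with rfl | rfl <;> rcases h2 with h2 | h2
    exacts [absurd h2.symm h3, by rw [h2], by rw [h2, Set.pair_comm], absurd h2.symm h3]
  all_goals exact absurd h1 (by decide +kernel)

theorem tt_D (h : Std F) (h0 : 0 ∈ TT F) (h1 : 1 ∈ TT F) (hB : DB F = ↑B3 ∨ DB F = ↑B4) :
    TT F = {0, 1, -1} := by
  rcases tt_cases h ⟨_, h1⟩ with ⟨a, e⟩ | ⟨a, b, h2, e⟩ | e | e | e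
  · rw [e] at h0 h1
    exact absurd (h1.trans h0.symm) one_ne_zero
  · rw [e] at h0 h1
    exact absurd h2 ((by decide +kernel : ∀ a b : K9, 0 = a ∨ 0 = b → 1 = a ∨ 1 = b → nn (a - b) ≠ -1) a b h0 h1)
  · exact e
  · rw [e] at h1
    exact absurd (show (1 : K9) = 0 ∨ 1 = ii ∨ 1 = -ii from h1) (by decide +kernel)
  · have : (ze, false) ∈ DB F := by rw [db_E h e, Finset.mem_coe]; decide +kernel
    rcases hB with e | e <;> rw [e, Finset.mem_coe] at this <;> exact absurd this (by decide +kernel)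

theorem tt_E (h : Std F) (h0 : 0 ∈ TT F) (h1 : 1 ∈ TT F) (hB : DB F = ↑B5) : TT F = {0, 1, -1, ii, -ii} := by
  have h2 : ii ∈ TT F := by
    have := t4 (l := ze) (e := false) h h1 (by rw [hB, Finset.mem_coe]; decide +kernel)
    rwa [show act ze false 1 = ii by decide +kernel] at this
  rcases tt_cases h ⟨_, h1⟩ with ⟨a, e⟩ | ⟨a, b, h3, e⟩ | e | e | e
  · rw [e] at h0 h1
    exact absurd (h1.trans h0.symm) one_ne_zero
  · rw [e] at h0 h1
    exact absurd h3 ((by decide +kernel : ∀ a b : K9, 0 = a ∨ 0 = b → 1 = a ∨ 1 = b → nn (a - b) ≠ -1) a b h0 h1)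
  · rw [e] at h2
    exact absurd (show ii = 0 ∨ ii = 1 ∨ ii = -1 from h2) (by decide +kernel)
  · rw [e] at h1
    exact absurd (show (1 : K9) = 0 ∨ 1 = ii ∨ 1 = -ii from h1) (by decide +kernel)
  · exact e

end Cfsg.Agent.U4X
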