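import Mathlib
import Cfsg.Agent.U4X.Tab
import Cfsg.Agent.U4X.Co

/-!
# The five exceptional systems
-/

set_option autoImplicit false
set_option linter.unusedSectionVars false
set_option linter.unusedVariables false

namespace Cfsg.Agent.U4X

open Cfsg Cfsg.FusionSystem Cfsg.Agent.Fus Subgroup Cfsg.Agent.U4F Cfsg.Agent.Cl MulAction
open Cfsg.Agent.Spor Cfsg.Agent.Spor.Leech Cfsg.Agent.Spor.CZ Cfsg.Agent.Spor.LC

/-- The product of parameters. -/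
def five_mp (r s : K9 × Bool) : K9 × Bool := (r.1 * sg r.2 s.1, xor r.2 s.2)

/-- All elements of `B` are products of five factors `±1`, `g`, `h`. -/
abbrev five_Gen (g h : K9 × Bool) (B : Finset (K9 × Bool)) : Prop :=
  ∀ r ∈ B, ∃ a ∈ [(1, false), (-1, false), g, h], ∃ b ∈ [(1, false), g, h], ∃ c ∈ [(1, false), g, h],
    ∃ d ∈ [(1, false), g, h], ∃ e ∈ [(1, false), g, h], r = five_mp a (five_mp b (five_mp c (five_mp d e)))

theorem five_sub {F : FS K9} (hd : dd ∈ AF F) {g h : K9 × Bool} (hg : g ∈ DB F) (hh : h ∈ DB F)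
    {B : Finset (K9 × Bool)} (hB : five_Gen g h B) : ↑B ⊆ DB F := fun r hr => by
  have h1 : ∀ a ∈ [(1, false), g, h], a ∈ DB F := by simp [db_one, hg, hh]
  have h2 : ∀ a ∈ [(1, false), (-1, false), g, h], a ∈ DB F := by simp [db_one, db_neg hd, hg, hh]
  have h3 : ∀ {a b}, a ∈ DB F → b ∈ DB F → five_mp a b ∈ DB F := db_mul
  obtain ⟨a, ha, b, hb, c, hc, d, hd, e, he, rfl⟩ := hB r hr
  exact h3 (h2 a ha) (h3 (h1 b hb) (h3 (h1 c hc) (h3 (h1 d hd) (h1 e he))))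

theorem five_n1 : nm (vv 1) = 32 := (x_quad (Or.inl rfl)).nv
theorem five_n5 : nm (vv 5) = 32 := (x_quad (Or.inr rfl)).nv

theorem has1 : Has ↑B1 {ze, -ze} := by
  obtain ⟨F, hF, h1, h2, h3, h4⟩ := x_sys (H := St2 (vv 4) (vv 5)) (not_dvd_of_le five_n5 inf_le_right)
    fun l hl => x_m45 (Or.inl hl)
  have d := x_d14 hF (x_m45 (by omega))
  obtain ⟨s, e⟩ := std_of_le h2 h3 h4 (B := B1) (five_sub h4 d d (by decide +kernel))
    ((ncard_PB_le hF (x_quad (Or.inr rfl)).card_uv).trans (by decide +kernel))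
  exact ⟨F, h1, s, e, tt_A s (x_tz hF (x_m45 (by omega))) (Or.inl e)⟩

theorem has2 : Has ↑B2 {ze, -ze} := by
  obtain ⟨F, hF, h1, h2, h3, h4⟩ := x_sys (H := Hp (vv 4) (vv 5)) (not_dvd_Hp five_n5)
    fun l hl => St2_le_Hp _ _ (x_m45 (Or.inl hl))
  obtain ⟨s, e⟩ := std_of_le h2 h3 h4 (B := B2)
    (five_sub h4 (x_d14 hF (St2_le_Hp _ _ (x_m45 (by omega)))) (x_d15 hF x_m15) (by decide +kernel))
    ((ncard_PB_le hF (n := 8) ((card_Hp_le _ _ _).trans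
      (Nat.mul_le_mul_left 2 (x_quad (Or.inr rfl)).card_uv))).trans (by decide +kernel))
  exact ⟨F, h1, s, e, tt_A s (x_tz hF (St2_le_Hp _ _ (x_m45 (by omega)))) (Or.inr e)⟩

theorem has3 : Has ↑B3 {0, 1, -1} := by
  obtain ⟨F, hF, h1, h2, h3, h4⟩ := x_sys (H := St2 (vv 1) (vv 2)) (not_dvd_of_le five_n1 inf_le_left)
    fun l hl => x_m12 (by omega)
  have d := x_d10 hF (x_m12 (by omega))
  obtain ⟨s, e⟩ := std_of_le h2 h3 h4 (B := B3) (five_sub h4 d d (by decide +kernel))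
    ((ncard_PB_le hF (x_quad (Or.inl rfl)).card_vx).trans (by decide +kernel))
  exact ⟨F, h1, s, e, tt_D s (x_t0 hF (x_m12 (by omega))) (x_t1 hF (x_m12 (by omega))) (Or.inl e)⟩

theorem has4 : Has ↑B4 {0, 1, -1} := by
  obtain ⟨F, hF, h1, h2, h3, h4⟩ := x_sys (H := Hp (vv 1) (vv 2)) (not_dvd_Hp (c := vv 1) (x_quad (Or.inl rfl)).nx)
    fun l hl => St2_le_Hp _ _ (x_m12 (by omega))
  obtain ⟨s, e⟩ := std_of_le h2 h3 h4 (B := B4)
    (five_sub h4 (x_d10 hF (St2_le_Hp _ _ (x_m12 (by omega)))) (x_d11 hF x_m11) (by decide +kernel))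
    ((ncard_PB_le hF (n := 8) ((card_Hp_le _ _ _).trans
      (Nat.mul_le_mul_left 2 (x_quad (Or.inl rfl)).card_vx))).trans (by decide +kernel))
  exact ⟨F, h1, s, e, tt_D s (x_t0 hF (St2_le_Hp _ _ (x_m12 (by omega))))
    (x_t1 hF (St2_le_Hp _ _ (x_m12 (by omega)))) (Or.inr e)⟩

theorem has5 : Has ↑B5 {0, 1, -1, ii, -ii} := by
  obtain ⟨F, hF, h1, h2, h3, h4⟩ := x_sys (H := stabilizer Co0 (vv 1)) (not_dvd_of_le five_n1 le_rfl)
    fun l hl => (x_m12 (by omega)).1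
  obtain ⟨s, e⟩ := std_of_le h2 h3 h4 (B := B5)
    (five_sub h4 (x_d12 hF x_m12') (x_d10 hF (x_m12 (by omega)).1) (by decide +kernel))
    ((Set.ncard_le_ncard (t := ↑B5) fun r hr => by simpa [B5] using pb_ne hr).trans (Set.ncard_coe_finset _).le)
  exact ⟨F, h1, s, e, tt_E s (x_t0 hF (x_m12 (by omega)).1) (x_t1 hF (x_m12 (by omega)).1) e⟩

end Cfsg.Agent.U4X
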