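import Mathlib
import Cfsg.Agent.U4X.YE
import Cfsg.Agent.U4F.Real
import Cfsg.Agent.U4F.QStd

/-!
# The systems of the extensions of U4(3)
-/

set_option autoImplicit false
set_option linter.unusedSectionVars false
set_option linter.unusedVariables false

namespace Cfsg.Agent.U4X

open Cfsg Cfsg.FusionSystem Cfsg.Agent.Fus Subgroup Cfsg.Agent.U4F Cfsg.Agent.Cl

theorem gen_pow (n : ℕ) : IsD (ii ^ n) ((-1) ^ n) (RingEquiv.refl K9) (dd ^ n : MulAut (UG K9)) := by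
  induction n with
  | zero => simpa using dgb_one
  | succ n ih => rw [pow_succ, pow_succ, pow_succ]; exact ih.mul isD_dd

theorem gen_hasT {F : FS K9} (hd : dd ∈ AF F) : HasT (AF F ⊓ Dg K9) := by
  have hm : ∀ n : ℕ, dd ^ n ∈ AF F ⊓ Dg K9 := fun n => pow_mem (mem_inf.2 ⟨hd, dd_mem_Dg⟩) n
  refine ⟨fun l hl => ?_, fun m hm' sm => ?_⟩
  · obtain ⟨n, h1, h2⟩ := (by decide +kernel : ∀ l : K9, l ≠ 0 → ∃ n : Fin 4, l * l = ii ^ n.1 ∧
      (l * star l)⁻¹ = (-1) ^ n.1) l hl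
    exact ⟨_, hm n, h1 ▸ h2 ▸ gen_pow n⟩
  · obtain ⟨n, h1, h2⟩ := (by decide +kernel : ∀ m : K9, m ≠ 0 → star m = m → ∃ n : Fin 4,
      m⁻¹ = ii ^ n.1 ∧ m * m = (-1) ^ n.1) m hm' sm
    exact ⟨_, hm n, h1 ▸ h2 ▸ gen_pow n⟩

/-- The system of `SU₄(3) ⋊ A`, with the description of its morphisms. -/
theorem gen_real (A : Subgroup (MulAut (UG K9))) (hD : A ≤ Dg K9) (hp : ¬ 3 ∣ Nat.card A) (hT : HasT A) :
    ∃ F' : FS K9, Rz 3 F' ∧ F'.IsSaturated 3 ∧ (∀ α, α ∈ AF F' ↔ ∃ s, ∃ δ ∈ A, α = MulAut.conj s * δ) ∧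
      HasL F' ∧ HasW F' ∧ ∀ P f, F'.Mor P f → ∃ g, ∃ δ ∈ Dg K9, ∀ x ∈ P,
        R.j0 (f x) * g = g * R.j0 (δ x) := by
  have : Finite (R.GX hD) := Finite.of_equiv _ SemidirectProduct.equivProd.symm
  obtain ⟨q, h⟩ := R.exists_uField (K := K9)
  obtain ⟨F, hF⟩ := R.exists_realizes (R.jX hD) (R.jX_inj hD)
  have hi := R.index_jX hD hp
  refine ⟨F, R.rz_of hF hi, hF.isSaturated (((R.isPGroup_U0 h).of_equiv R.uuEquiv.symm).to_subgroup ⊤) ?_,
    fun α => ⟨fun hα => ?_, ?_⟩, fun y => ?_, ?_, fun P f hf => ?_⟩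
  · rwa [relIndex_top_right, img_eq_map, ← MonoidHom.range_eq_map]
  · obtain ⟨g, -, e⟩ := hF.exists_conj hα
    exact R.norm_jX hD hT fun x => e x (mem_top x)
  · rintro ⟨s, δ, hδ, rfl⟩
    refine hF.mor_iff.2 ⟨le_rfl, fun _ _ => mem_top _, R.jX hD s * SemidirectProduct.inr ⟨δ, hδ⟩, mem_top _,
      fun x _ => ?_⟩
    rw [MulAut.mul_apply, MulAut.conj_apply, map_mul, map_mul, map_inv, ← R.inr_jX hD ⟨δ, hδ⟩ x]
    group
  · refine mem_XF.2 (hF.mor_iff.2 ⟨le_top, fun _ _ => mem_top _, _, mem_top _, fun x hx =>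
      R.inl_jX hD (g := R.lw R.hs y) (R.mt_ext ?_)⟩)
    rw [R.mt_mul, R.mt_mul, R.mt_j0, R.mt_j0, mem_Vs.1 hx, R.lw_um R.hs x.v.ha]
    rfl
  · refine hF.mor_iff.2 ⟨le_top, fun _ _ => mem_top _, _, mem_top _, fun x hx =>
      R.inl_jX hD (g := R.w2 _) (R.mt_ext ?_)⟩
    rw [R.mt_mul, R.mt_mul, R.mt_j0, R.mt_j0, mem_Qs.1 hx, R.w2_um]
    congr 2
    simp only [wq, R.sr]; ring
  · obtain ⟨g, -, e⟩ := hF.exists_conj hf
    refine ⟨g.left, g.right.1, hD g.right.2, fun x hx => eq_mul_inv_iff_mul_eq.1 ?_⟩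
    refine SemidirectProduct.inl_injective (φ := R.dAut.comp (inclusion hD)) ?_
    have := e x hx
    rw [← SemidirectProduct.inl_left_mul_inr_right g, _root_.mul_inv_rev, mul_assoc, mul_assoc,
      ← mul_assoc (R.jX hD x), ← mul_assoc (SemidirectProduct.inr _), ← mul_assoc (SemidirectProduct.inr _),
      R.inr_jX, ← mul_assoc] at this
    rw [map_mul, map_mul, map_inv]; exact this

/-- The matrix computation. -/
theorem gen_mat {G : Matrix (Fin 4) (Fin 4) K9} (hG : G.det = 1) {a a' : K9} (ha : a ≠ 0) (ha' : a' ≠ 0)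
    {σ : K9 →+* K9} (e : R.um σ a 0 0 0 * G = G * R.um σ a' 0 0 0) :
    G 0 0 ≠ 0 ∧ ∀ a b x a' b' x', R.um σ a b 0 x * G = G * R.um σ a' b' 0 x' →
      x * G 1 1 + b * G 2 1 = G 0 0 * x' ∧ x * G 1 2 + b * G 2 2 = G 0 0 * b' := by
  have e1 := congrFun (congrFun e 0) 1
  have e2 := congrFun (congrFun e 0) 2
  have e3 := congrFun (congrFun e 1) 3
  have e4 := congrFun (congrFun e 2) 3
  have e5 := congrFun (congrFun e 3) 3
  simp [R.um, Matrix.mul_apply, Fin.sum_univ_four, ha, ha'] at e1 e2 e3 e4 e5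
  refine ⟨fun h => ?_, fun a b x a' b' x' f => ?_⟩
  · rw [Matrix.det_eq_zero_of_column_eq_zero 0 fun i => by fin_cases i <;> assumption] at hG
    exact zero_ne_one hG
  · have f1 := congrFun (congrFun f 0) 1
    have f2 := congrFun (congrFun f 0) 2
    simp [R.um, Matrix.mul_apply, Fin.sum_univ_four, e1, e2] at f1 f2
    exact ⟨by linear_combination f1, by linear_combination f2⟩

theorem gen_a_ne {f : UG K9 → UG K9} {F : FS K9} (hf : F.Iso (Qs K9) (Qs K9) f) : (f (gen 0)).v.a ≠ 0 :=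
  fun h => by
    have h1 := ye_Z_ext (iso_Q_Z hf ye_z0) (one_mem _) h
    rw [← hf.mor.map_one] at h1
    have := congrArg (·.v.a) (hf.mor.inj (yb_ZQ ye_z0) (one_mem _) h1)
    simp [ye_g0] at this

theorem has_gen {F : FS K9} (h : Std F) : Has (DB F) {0} := by
  obtain ⟨F', hR, h2, hA, hL, hW, hM⟩ := gen_real _ inf_le_right (not_dvd_AD h.sat) (gen_hasT h.hd)
  have e : AF F = AF F' := by
    ext α
    rw [hA]
    exact ⟨h.nm α, fun ⟨s, δ, hδ, e⟩ => e ▸ mul_mem (conj_mem_AF F s) hδ.1⟩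
  have hd : dd ∈ AF F' := e ▸ h.hd
  refine ⟨F', hR, ⟨h2, fun α hα => ?_, hL, hd⟩, by simp only [DB, e], Set.eq_singleton_iff_unique_mem.2
    ⟨?_, fun γ hγ => ?_⟩⟩
  · rw [← e] at hα ⊢
    exact h.nm α hα
  · have e1 : wr K9 * jt 0 = db := LinearEquiv.ext fun v => by
      rw [ga_mul, wr_apply]; revert v; decide +kernel
    have h1 := db_mem hd
    rw [← e1] at h1
    exact (mul_mem_cancel_left (YF_le_YE F' (mem_YF.2 ⟨_, qInd_wq hW⟩))).1 h1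
  · obtain ⟨f, hf⟩ := mem_YE.1 hγ
    obtain ⟨g, δ, hδ, k⟩ := hM _ f hf.iso.mor
    obtain ⟨l, m, s, i⟩ := mem_Dg.1 hδ
    have k' : ∀ x ∈ Qs K9, R.um (starRingEnd K9) (f x).v.a (f x).v.b 0 (f x).x * R.mt g =
        R.mt g * R.um (starRingEnd K9) (δ x).v.a (δ x).v.b 0 (δ x).x := fun x hx => by
      have := congrArg R.mt (k x hx)
      rwa [R.mt_mul, R.mt_mul, R.mt_j0, R.mt_j0, mem_Qs.1 (hf.iso.maps x hx), mem_Qs.1 (aut_Q δ hx)] at this
    have z := k' _ (yb_ZQ ye_z0)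
    obtain ⟨z1, -, z2⟩ := iso_Q_Z hf.iso ye_z0
    obtain ⟨z3, -, z4⟩ := aut_Z δ ye_z0
    rw [z1, z2, z3, z4] at z
    obtain ⟨g0, hg⟩ := gen_mat (R.mt_det g) (gen_a_ne hf.iso) (by
      rw [i.a, ye_g0]
      simp [i.hl, i.hm]) z
    have hL : ∀ v : M9, (jt γ v).1 * R.mt g 1 1 + (jt γ v).2 * R.mt g 2 1 = R.mt g 0 0 * (l * s v.1) ∧
        (jt γ v).1 * R.mt g 1 2 + (jt γ v).2 * R.mt g 2 2 = R.mt g 0 0 * (l * m * s v.2) := fun v => by
      have := hg _ _ _ _ _ _ (k' _ (ybL_mem v))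
      rw [i.x, i.b] at this
      rw [show jt γ v = ((f (ybL v)).x, (f (ybL v)).v.b) from (hf.ind _ (ybL_mem v)).symm]
      exact this
    obtain ⟨v, hv⟩ := (jt γ).surjective (jt γ (0, ii) - s ii • jt γ (0, 1))
    obtain ⟨a1, a2⟩ := hL v
    obtain ⟨b1, b2⟩ := hL (0, ii)
    obtain ⟨c1, c2⟩ := hL (0, 1)
    rw [hv] at a1 a2
    simp only [Prod.fst_sub, Prod.snd_sub, Prod.smul_fst, Prod.smul_snd, smul_eq_mul, map_zero,
      map_one] at a1 a2 b1 b2 c1 c2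
    have v1 : R.mt g 0 0 * (l * s v.1) = 0 := by linear_combination b1 - a1 - s ii * c1
    have v2 : R.mt g 0 0 * (l * m * s v.2) = 0 := by linear_combination b2 - a2 - s ii * c2
    simp only [mul_eq_zero, g0, i.hl, i.hm, false_or, map_eq_zero] at v1 v2
    rw [show v = 0 from Prod.ext v1 v2, map_zero, eq_comm, sub_eq_zero] at hv
    exact (by decide +kernel : ∀ γ t : K9, jf γ (0, ii) = (t * (jf γ (0, 1)).1, t * (jf γ (0, 1)).2) →
      γ = 0) γ _ hv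

end Cfsg.Agent.U4X
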