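import Mathlib
import Cfsg.Agent.U4X.YE
import Cfsg.Agent.U4F.Eq

/-!
# Reflections; a standard system is determined by its invariants
-/

set_option autoImplicit false
set_option linter.unusedSectionVars false
set_option linter.unusedVariables false

namespace Cfsg.Agent.U4X

open Cfsg Cfsg.FusionSystem Cfsg.Agent.Fus Subgroup Cfsg.Agent.U4F Cfsg.Agent.Cl

variable {F F' : FS K9}

namespace Root

/-- The maps that are self-adjoint for the commutator form. -/
def mf (α α' β γ : K9) (v : M9) : M9 :=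
  (α * v.1 + α' * star v.1 + β * v.2, γ * v.1 + star α * v.2 + α' * star v.2)

theorem mf_add (α α' β γ : K9) (v w : M9) : mf α α' β γ (v + w) = mf α α' β γ v + mf α α' β γ w := by
  ext <;> simp [mf] <;> ring

theorem ext4 {g h : M9 →+ M9} (h1 : g (1, 0) = h (1, 0)) (h2 : g (ze, 0) = h (ze, 0)) (h3 : g (0, 1) = h (0, 1))
    (h4 : g (0, ze) = h (0, ze)) (v : M9) : g v = h v := by
  have h0 : ∀ v : M9, ∃ a b c d : Fin 3, v = a.1 • ((1, 0) : M9) + b.1 • (ze, 0) + c.1 • (0, 1) + d.1 • (0, ze) := by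
    decide +kernel
  obtain ⟨a, b, c, d, rfl⟩ := h0 v
  simp only [map_add, map_nsmul, h1, h2, h3, h4]

theorem d1 : ∀ c1 c2 : K9, c1 + star c1 = 0 → c2 * star ze + star c2 * ze = 0 →
    c1 * star ze + star c1 * ze + (c2 + star c2) = 0 → star c1 = -c1 ∧ c2 = c1 * ze := by decide +kernel

theorem d2 : ∀ a1 a2 : K9, ∃ α α', a1 = α + α' ∧ a2 = α * ze + α' * star ze := by decide +kernel

theorem d3 : ∀ c d : K9, c + star c = d + star d → c * star ze + star c * ze = d * star ze + star d * ze →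
    c = d := by decide +kernel

theorem exists_mf {M : GA M9} (h : ∀ v w, BB (M v) w = BB v (M w)) :
    ∃ α α' β γ, star β = -β ∧ star γ = -γ ∧ ∀ v, M v = mf α α' β γ v := by
  obtain ⟨α, α', e1, e2⟩ := d2 (M (1, 0)).1 (M (ze, 0)).1
  have h11 := h (1, 0) (1, 0)
  have h22 := h (ze, 0) (ze, 0)
  have h12 := h (1, 0) (ze, 0)
  have h33 := h (0, 1) (0, 1)
  have h44 := h (0, ze) (0, ze)
  have h34 := h (0, 1) (0, ze)
  have h13 := h (1, 0) (0, 1)
  have h14 := h (1, 0) (0, ze)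
  have h23 := h (ze, 0) (0, 1)
  have h24 := h (ze, 0) (0, ze)
  simp only [BB, star_one, star_zero, mul_one, one_mul, mul_zero, zero_mul, add_zero, zero_add, sub_zero,
    zero_sub] at h11 h22 h12 h33 h44 h34 h13 h14 h23 h24
  obtain ⟨s1, s2⟩ := d1 (M (1, 0)).2 (M (ze, 0)).2
    (by linear_combination h11 + ((M (1, 0)).2 + star (M (1, 0)).2) * three_eq)
    (by linear_combination h22 + ((M (ze, 0)).2 * star ze + star (M (ze, 0)).2 * ze) * three_eq)
    (by linear_combination -h12)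
  obtain ⟨s3, s4⟩ := d1 (M (0, 1)).1 (M (0, ze)).1
    (by linear_combination -h33 + ((M (0, 1)).1 + star (M (0, 1)).1) * three_eq)
    (by linear_combination -h44 + ((M (0, ze)).1 * star ze + star (M (0, ze)).1 * ze) * three_eq)
    (by linear_combination h34)
  have s5 : (M (0, 1)).2 = star α + α' := d3 _ _
    (by rw [← h13, e1]; simp only [star_add, star_star]; ring)
    (by rw [← h23, e2]; simp only [star_add, star_star, star_mul]; ring)
  have s6 : (M (0, ze)).2 = star α * ze + α' * star ze := d3 _ _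
    (by rw [← h14, e1]; simp only [star_add, star_star, star_mul]; ring)
    (by rw [← h24, e2]; simp only [star_add, star_star, star_mul]; ring)
  refine ⟨α, α', (M (0, 1)).1, (M (1, 0)).2, s3, s1,
    ext4 (g := M.toAddEquiv.toAddMonoidHom) (h := AddMonoidHom.mk' _ (mf_add _ _ _ _)) ?_ ?_ ?_ ?_⟩
  · exact Prod.ext (e1.trans (by simp [mf])) (by simp [mf])
  · exact Prod.ext (e2.trans (by simp [mf])) (s2.trans (by simp [mf]))
  · exact Prod.ext (by simp [mf]) (s5.trans (by simp [mf]))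
  · exact Prod.ext (s4.trans (by simp [mf])) (s6.trans (by simp [mf]))

theorem d4 : ∀ α α' γ : K9, star γ = -γ → mf α α' 0 γ (mf α α' 0 γ (1, 0)) = -(1, 0) →
    mf α α' 0 γ (mf α α' 0 γ (ze, 0)) = -(ze, 0) → α = 0 ∨ (α' = 0 ∧ star α = -α) := by decide +kernel

theorem d5 : ∀ α α' γ : K9, star γ = -γ → mf α α' ii γ (mf α α' ii γ (1, 0)) = -(1, 0) →
    mf α α' ii γ (mf α α' ii γ (ze, 0)) = -(ze, 0) → mf α α' ii γ (mf α α' ii γ (0, 1)) = -(0, 1) →
    mf α α' ii γ (mf α α' ii γ (0, ze)) = -(0, ze) → star (ii * α) = ii * α ∧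
    ∀ v, mf α α' ii γ v = rr (ii * α) (jf α' (rr (-(ii * α)) v)) := by decide +kernel

theorem d6 : ∀ β : K9, star β = -β → β = 0 ∨ β = ii ∨ β = -ii := by decide +kernel

theorem BB_db : ∀ v w, BB (db v) (db w) = -BB v w := by
  intro v w
  simp only [BB, db_apply, star_mul, star_neg, star_ii]
  linear_combination (w.2 * star v.1 + star w.2 * v.1 - v.2 * star w.1 - star v.2 * w.1) * ii_ii

theorem BB_rr {c : K9} (hc : star c = c) (v w : M9) : BB (rr c v) (rr c w) = BB v w := by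
  simp only [BB, rr_apply, star_mul, star_add, hc]
  ring

theorem db_db : ∀ v, db (db v) = -v := by decide +kernel

theorem db_norm : db ∈ normalizer (RR K9 : Set (GA M9)) := mem_normalizer_fintype (by
  rintro _ ⟨c, hc, rfl⟩
  refine ⟨-c, by simp [hc], mul_inv_eq_iff_eq_mul.2 (LinearEquiv.ext fun v => ?_)⟩
  rw [ga_mul, ga_mul]
  ext <;> simp [db_apply]
  ring)

theorem rr_eq : rr (1 : K9) = db * (rr 1 * db * rr (-1))⁻¹ := by
  rw [eq_mul_inv_iff_mul_eq]
  exact ga_ext4 (by decide +kernel) (by decide +kernel) (by decide +kernel) (by decide +kernel)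

/-- A reflection. -/
structure Rf (M : GA M9) : Prop where
  sq : ∀ v, M (M v) = -v
  bb : ∀ v w, BB (M v) (M w) = -BB v w

theorem Rf.conj {M g : GA M9} (h : Rf M) (hg : ∀ v w, BB (g v) (g w) = BB v w) : Rf (g * M * g⁻¹) :=
  ⟨fun v => by simp only [ga_mul]; rw [ga_inv_apply, h.sq, map_neg, ga_apply_inv], fun v w => by
    simp only [ga_mul]; rw [hg, h.bb, ← hg, ga_apply_inv, ga_apply_inv]⟩

theorem Rf.mul_inv {M N : GA M9} (h : Rf M) (h' : Rf N) (v w : M9) :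
    BB ((M * N⁻¹) v) ((M * N⁻¹) w) = BB v w := by
  rw [ga_mul, ga_mul, h.bb, ← h'.bb, ga_apply_inv, ga_apply_inv]

theorem rf_db : Rf db := ⟨db_db, BB_db⟩

theorem rf_db' : Rf (rr 1 * db * rr (-1)) := rr_inv (1 : K9) ▸ rf_db.conj (BB_rr (star_one _))

/-- The conjugates of `rr 1` are products of two reflections. -/
theorem two_rf (hd : dd ∈ AF F) {g : GA M9} (hg : g ∈ YF F) :
    ∃ a ∈ YE F, ∃ b ∈ YE F, Rf a ∧ Rf b ∧ g * rr 1 * g⁻¹ = a * b⁻¹ := by
  have h1 := YF_le_YE F hg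
  have h2 := db_mem hd
  refine ⟨_, mul_mem (mul_mem h1 h2) (inv_mem h1), _, mul_mem (mul_mem h1 (mul_mem (mul_mem
    (YF_le_YE F (rr_mem F (star_one _))) h2) (YF_le_YE F (rr_mem F (c := -1) (by simp))))) (inv_mem h1),
    rf_db.conj ((sp_Y F).bb g hg), rf_db'.conj ((sp_Y F).bb g hg), ?_⟩
  conv_lhs => rw [rr_eq]
  group

end Root

open Root

theorem root_form {M : GA M9} (h1 : ∀ v, M (M v) = -v) (h2 : ∀ v w, BB (M v) (M w) = -BB v w) :
    M ∈ normalizer (RR K9 : Set (GA M9)) ∨ ∃ γ c : K9, star c = c ∧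
      (M = rr c * jt γ * rr (-c) ∨ M = ng * (rr c * jt γ * rr (-c))) := by
  have h3 : ∀ v w, BB (M v) w = BB v (M w) := fun v w => by
    have := h2 v (M w)
    rw [h1] at this
    simp only [BB, Prod.fst_neg, Prod.snd_neg, star_neg] at this ⊢
    linear_combination -this
  obtain ⟨α, α', β, γ, sβ, sγ, e⟩ := exists_mf h3
  have e2 : ∀ v, mf α α' β γ (mf α α' β γ v) = -v := fun v => by rw [← e, ← e, h1]
  rcases d6 β sβ with rfl | rfl | rfl
  · left
    refine mem_normalizer_fintype ?_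
    rintro _ ⟨c, hc, rfl⟩
    rcases d4 α α' γ sγ (e2 _) (e2 _) with rfl | ⟨rfl, hα⟩
    · refine ⟨c, hc, mul_inv_eq_iff_eq_mul.2 (LinearEquiv.ext fun v => ?_)⟩
      rw [ga_mul, ga_mul, e, e]
      ext <;> simp [mf, hc]
      ring
    · refine ⟨-c, by simp [hc], mul_inv_eq_iff_eq_mul.2 (LinearEquiv.ext fun v => ?_)⟩
      rw [ga_mul, ga_mul, e, e]
      ext <;> simp [mf, hα]
      ring
  · obtain ⟨a, b⟩ := d5 α α' γ sγ (e2 _) (e2 _) (e2 _) (e2 _)
    exact .inr ⟨α', _, a, .inl (LinearEquiv.ext fun v => (e v).trans (b v))⟩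
  · have e3 : ∀ v, mf α α' (-ii) γ v = -mf (-α) (-α') ii (-γ) v := fun v => by
      ext <;> simp [mf] <;> ring
    have e4 : ∀ v, mf (-α) (-α') ii (-γ) (mf (-α) (-α') ii (-γ) v) = -v := fun v => by
      rw [← e2 v, e3, e3]
      ext <;> simp [mf] <;> ring
    obtain ⟨a, b⟩ := d5 (-α) (-α') (-γ) (by rw [star_neg, sγ]) (e4 _) (e4 _) (e4 _) (e4 _)
    exact .inr ⟨-α', _, a, .inr (LinearEquiv.ext fun v => (e v).trans ((e3 v).trans (congrArg Neg.neg (b v))))⟩

theorem le_of_conj (hF : F.IsSaturated 3) {Y : Subgroup (GA M9)} (hR : RR K9 ≤ Y)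
    (hN : YF F ⊓ normalizer (RR K9 : Set (GA M9)) ≤ Y) (hc : ∀ g ∈ YF F, g * rr 1 * g⁻¹ ∈ Y) : YF F ≤ Y := by
  intro g hg
  have hs := syl_Y hF
  have h1 : RR K9 ≤ YF F ⊓ Y := le_inf hs.le hR
  have r1 : rr (1 : K9) ∈ RR K9 := ⟨1, star_one _, rfl⟩
  obtain ⟨c, hc', e⟩ := GT.Tr.exists_conj_le_sylowIn (isPGroup_RR K9 3)
    (fun hd => hs.idx (relIndex_mul_relIndex _ _ _ h1 inf_le_left ▸ hd.mul_right _))
    (((isPGroup_RR K9 3).map (MulAut.conj g).toMonoidHom).to_le (zpowers_le.2 (cnta_mem' r1)))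
    (zpowers_le.2 (mem_inf.2 ⟨mul_mem (mul_mem hg (hs.le r1)) (inv_mem hg), hc g hg⟩))
  have h2 := e _ (mem_zpowers _)
  have h3 : c * g ∈ YF F := mul_mem hc'.1 hg
  have h4 := hN ⟨h3, (yh_Y hF).mem_of_conj h3 (by convert h2 using 1; group)⟩
  exact (Subgroup.mul_mem_cancel_left Y hc'.2).1 h4

theorem yf_le (hF : F.IsSaturated 3) (hd : dd ∈ AF F) (hA : AF F ≤ AF F') (hT : TT F ⊆ TT F') :
    YF F ≤ YF F' := by
  have hN : YF F ⊓ normalizer (RR K9 : Set (GA M9)) ≤ YF F' := fun M hM => by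
    obtain ⟨f, hf⟩ := mem_YF.1 hM.1
    obtain ⟨α, hα, e⟩ := ext_Y hF hf hM.2
    have hm : F'.Mor (Qs K9) f := ((mem_AF.1 (hA hα)).mono le_top).congr e
    exact mem_YF.2 ⟨f, ⟨hm, hf.iso.maps, hf.iso.surj⟩, hf.fix, hf.ind⟩
  have key : ∀ a ∈ YE F, Rf a → a ∈ YE F' := fun a ha h => by
    rcases root_form h.sq h.bb with hn | ⟨γ, c, hc, e⟩
    · have := YF_le_YE F' (hN ⟨mem_YF_of (mul_mem ha (inv_mem (db_mem hd))) (h.mul_inv rf_db),
        Subgroup.mul_mem _ hn (Subgroup.inv_mem _ db_norm)⟩)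
      exact (mul_mem_cancel_right (inv_mem (db_mem (hA hd)))).1 this
    · have k : ∀ E : FS K9, rr c * jt γ * rr (-c) ∈ YE E ↔ jt γ ∈ YE E := fun E => by
        rw [mul_mem_cancel_right (YF_le_YE E (rr_mem E (by simp [hc]))),
          mul_mem_cancel_left (YF_le_YE E (rr_mem E hc))]
      rcases e with rfl | rfl
      · exact (k F').2 (hT ((k F).1 ha))
      · exact mul_mem (YF_le_YE F' (ng_mem (hA hd)))
          ((k F').2 (hT ((k F).1 ((mul_mem_cancel_left (YF_le_YE F (ng_mem hd))).1 ha))))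
  refine le_of_conj hF ?_ hN fun g hg => ?_
  · rintro _ ⟨c, hc, rfl⟩
    exact rr_mem F' hc
  · obtain ⟨a, ha, b, hb, ra, rb, e⟩ := two_rf hd hg
    rw [e]
    exact mem_YF_of (mul_mem (key a ha ra) (inv_mem (key b hb rb))) (ra.mul_inv rb)

theorem tt_nonempty (hF : F.IsSaturated 3) (hd : dd ∈ AF F) (hQ : F.IsEssential 3 (Qs K9)) :
    (TT F).Nonempty := by
  by_contra hn
  have key : ∀ a ∈ YE F, Rf a → a ∈ normalizer (RR K9 : Set (GA M9)) := fun a ha h => by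
    rcases root_form h.sq h.bb with hn | ⟨γ, c, hc, e⟩
    · exact hn
    · have k : rr c * jt γ * rr (-c) ∈ YE F ↔ jt γ ∈ YE F := by
        rw [mul_mem_cancel_right (YF_le_YE F (rr_mem F (by simp [hc]))),
          mul_mem_cancel_left (YF_le_YE F (rr_mem F hc))]
      rcases e with rfl | rfl
      · exact (hn ⟨γ, k.1 ha⟩).elim
      · exact (hn ⟨γ, k.1 ((mul_mem_cancel_left (YF_le_YE F (ng_mem hd))).1 ha)⟩).elim
  obtain ⟨g, hg, hg'⟩ := nn_Y hF hQ
  refine hg' (le_of_conj hF le_normalizer inf_le_right (fun g hg => ?_) hg)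
  obtain ⟨a, ha, b, hb, ra, rb, e⟩ := two_rf hd hg
  rw [e]
  exact mul_mem (key a ha ra) (inv_mem (key b hb rb))

theorem le_of_T (hF : F.IsSaturated 3) (hd : dd ∈ AF F) (hL : HasL F) (hL' : HasL F') (hA : AF F ≤ AF F')
    (hT : TT F ⊆ TT F') : F ≤ F' := by
  have hq : 2 < qq K9 := by rw [qq_K9]; norm_num
  refine le_iff_mor.2 fun P f hf => hF.mor_of_alperin (isPGroup_top K9 3) (fun R g hR hg => ?_) hf
  rcases hR with rfl | hR
  · obtain ⟨α, hα, e⟩ := exists_AF hg.mor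
    exact (mem_AF.1 (hA hα)).congr fun x _ => e x
  rcases ess_cases hF hR with rfl | rfl | ⟨h, -⟩
  · obtain ⟨M, hM, e⟩ := iso_V hg.mor
    exact (mem_XF.1 (eq_XF_le hF hq hA hL hL' hM)).congr fun x hx => by rw [← e, ← eq_jv hx]
  · obtain ⟨α, hα, f', M, h, e⟩ := frat_Y hF hg
    exact (Mor.comp (mem_AF.1 (hA hα)) (mor_Q_of h (yf_le hF hd hA hT (mem_YF.2 ⟨_, h⟩))) fun _ _ =>
      mem_top _).congr fun x hx => (e x hx).symm
  · omega

theorem eq_of_data (h : Std F) (h' : Std F') (hB : DB F = DB F') (hT : TT F = TT F') : F = F' :=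
  le_antisymm' (le_of_T h.sat h.hd h.hl h'.hl (af_le h h'.hd hB.subset) hT.subset)
    (le_of_T h'.sat h'.hd h'.hl h.hl (af_le h' h.hd hB.symm.subset) hT.symm.subset)

theorem rz_of_has (h : Std F) (h' : Has (DB F) (TT F)) : Rz 3 F := by
  obtain ⟨E, h1, h2, h3, h4⟩ := h'
  exact eq_of_data h2 h h3 h4 ▸ h1

end Cfsg.Agent.U4X
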