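import Mathlib
import Cfsg.Agent.U4X.YE
import Cfsg.Agent.U4F.XB

/-!
# Transport along automorphisms of S
-/

set_option autoImplicit false
set_option linter.unusedSectionVars false
set_option linter.unusedVariables false

namespace Cfsg.Agent.U4X

open Cfsg Cfsg.FusionSystem Cfsg.Agent.Fus Subgroup Cfsg.Agent.U4F Cfsg.Agent.Cl

variable {F F' : FS K9} {κ : MulAut (UG K9)}

theorem twb_symm (h : Tw F F' κ) : Tw F' F κ⁻¹ := by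
  have := h.symm
  rwa [U4F.Tw, inv_inv]

theorem twb_img (h : Tw F F' κ) : img κ (Qs K9) = Qs K9 := by
  ext y
  rw [h.mem_img le_top]
  exact ⟨fun h => by simpa using aut_Q κ h.2, fun h => ⟨mem_top _, aut_Q κ⁻¹ h⟩⟩

theorem twb_inv {k : GA M9} (hk : ∀ g ∈ Qs K9, ((κ g).x, (κ g).v.b) = k (g.x, g.v.b)) :
    ∀ g ∈ Qs K9, ((κ⁻¹ g).x, (κ⁻¹ g).v.b) = k⁻¹ (g.x, g.v.b) := fun g hg => by
  have := hk _ (aut_Q κ⁻¹ hg)
  rw [MulAut.apply_inv_self] at this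
  rw [this, ga_inv_apply]

theorem twb_push (h : Tw F F' κ) {k : GA M9} (hk : ∀ g ∈ Qs K9, ((κ g).x, (κ g).v.b) = k (g.x, g.v.b))
    {M : GA M9} (hM : M ∈ YE F) : k * M * k⁻¹ ∈ YE F' := by
  obtain ⟨f, hf⟩ := mem_YE.1 hM
  have i := h.iso_push hf.iso
  rw [twb_img h] at i
  refine mem_YE.2 ⟨_, i, fun g hg => ?_⟩
  beta_reduce
  rw [hk _ (hf.iso.maps _ (aut_Q κ⁻¹ hg)), hf.ind _ (aut_Q κ⁻¹ hg), twb_inv hk g hg, ga_mul, ga_mul]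

theorem tw_YE (h : Tw F F' κ) {k : GA M9} (hk : ∀ g ∈ Qs K9, ((κ g).x, (κ g).v.b) = k (g.x, g.v.b))
    {M : GA M9} : k * M * k⁻¹ ∈ YE F' ↔ M ∈ YE F :=
  ⟨fun hM => by
    have := twb_push (twb_symm h) (twb_inv hk) hM
    rwa [show k⁻¹ * (k * M * k⁻¹) * k⁻¹⁻¹ = M by group] at this, twb_push h hk⟩

theorem tw_nm (h : Tw F F' κ) (hN : Nm F) (hk : ∀ δ ∈ AF F ⊓ Dg K9, κ * δ * κ⁻¹ ∈ Dg K9) : Nm F' := by
  intro α hα
  obtain ⟨s, δ, hδ, e⟩ := hN (κ⁻¹ * α * κ) (h.mem_AF.1 (by simpa [mul_assoc] using hα))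
  refine ⟨κ s, κ * δ * κ⁻¹, ⟨h.mem_AF.2 hδ.1, hk δ hδ⟩, ?_⟩
  rw [← mul_assoc, ← mul_assoc, ← ye_mul_conj, mul_assoc κ, ← e]
  group

theorem tw_sat (h : Tw F F' κ) (hF : F.IsSaturated 3) : F'.IsSaturated 3 :=
  h.isSaturated hF (isPGroup_top K9 3)

end Cfsg.Agent.U4X
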