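import Mathlib
import Cfsg.Agent.U4X.TwB
import Cfsg.Agent.U4X.TV
import Cfsg.Agent.U4X.Tab

/-!
# Translation and rotation of the parameter set
-/

set_option autoImplicit false
set_option linter.unusedSectionVars false
set_option linter.unusedVariables false

namespace Cfsg.Agent.U4X

open Cfsg Cfsg.FusionSystem Cfsg.Agent.Fus Subgroup Cfsg.Agent.U4F Cfsg.Agent.Cl

variable {F : FS K9}

namespace Tw

def thf (κ : K9) (g : UG K9) : UG K9 :=
  ⟨⟨g.v.a - (κ * star g.x * star g.x + star κ * g.x * g.x), g.v.b + κ * star g.x, g.v.c,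
    by simp [add_comm], g.v.hc⟩, g.x⟩

/-- An automorphism trivial on `V` and on `S / V`. -/
def th (κ : K9) : MulAut (UG K9) where
  toFun := thf κ
  invFun := thf (-κ)
  left_inv g := by apply UG.ext4 <;> simp [thf]; ring
  right_inv g := by apply UG.ext4 <;> simp [thf]; ring
  map_mul' g h := by
    apply UG.ext4 <;> simp [thf]
    · linear_combination (-(κ * star g.x * star h.x + star κ * g.x * h.x)) * three_eq
    · ring

theorem th_apply (κ : K9) (g : UG K9) : th κ g = thf κ g := rfl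

theorem th_dd (κ : K9) : th κ * dd = dd * th κ := MulEquiv.ext fun g => by
  rw [MulAut.mul_apply, MulAut.mul_apply, dd_apply, dd_apply, th_apply, th_apply]
  apply UG.ext4 <;> simp [thf, ddf, star_ii]
  · linear_combination (-(κ * star g.x * star g.x + star κ * g.x * g.x)) * ii_ii
  · ring

theorem th_dl {c l : K9} {e : Bool} (hl : l ≠ 0) (h : act l e c = c) :
    th (-(ii * c)) * dl l e = dl l e * th (-(ii * c)) := MulEquiv.ext fun g => by
  rw [MulAut.mul_apply, MulAut.mul_apply, dl_apply hl, dl_apply hl, th_apply, th_apply]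
  obtain ⟨h1, h2⟩ := (by decide +kernel : ∀ (c l : K9) (e : Bool), l ≠ 0 → act l e c = c → ∀ x : K9,
    -(ii * c) * star (l * sg e x) * star (l * sg e x) + star (-(ii * c)) * (l * sg e x) * (l * sg e x) =
      -(ii * c) * star x * star x + star (-(ii * c)) * x * x ∧
    -(ii * c) * star (l * sg e x) = l * nn l * sg e (-(ii * c) * star x)) c l e hl h g.x
  refine UG.ext4 (congrArg (g.v.a - ·) h1) ?_ rfl rfl
  change _ + -(ii * c) * star (l * sg e g.x) = l * nn l * sg e (_ + _)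
  rw [h2, ← sgE_apply, ← sgE_apply, map_add, mul_add, sgE_apply e g.v.b]
  rfl

open Tab in
theorem ug_jt : ∀ c γ : K9, ug 0 (-(ii * c)) * jt (γ + c) * (ug 0 (-(ii * c)))⁻¹ = jt γ := by decide +kernel

def tz : GA (Hm K9) :=
  mkA (fun v => ⟨v.a, -ze * v.b, -v.c, v.ha, by simp⟩) (fun v => ⟨v.a, (-ze)⁻¹ * v.b, -v.c, v.ha, by simp⟩)
    (fun v w => by ext <;> simp [mul_add, add_comm])
    (fun v => Hm.ext rfl (inv_mul_cancel_left₀ (by decide +kernel) _) (neg_neg _))
    (fun v => Hm.ext rfl (mul_inv_cancel_left₀ (by decide +kernel) _) (neg_neg _))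

theorem tz_ll (y : K9) : tz * ll y = ll (-ze * y) * tz := LinearEquiv.ext fun v => by
  have h : ze * star ze = -1 := nn_ze
  rw [ga_mul, ga_mul]
  ext <;> simp [tz]
  · ring
  · linear_combination (-(v.b * star y + star v.b * y + y * star y * v.a)) * h

end Tw

open Tw

theorem tw_th (h : Std F) {c : K9} (hc : ∀ r ∈ DB F, act r.1 r.2 c = c) :
    ∃ F' : FS K9, Std F' ∧ (Rz 3 F' → Rz 3 F) ∧ ∀ γ, γ ∈ TT F' ↔ γ + c ∈ TT F := by
  obtain ⟨F', hT⟩ := exists_tw F (th (-(ii * c)))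
  refine ⟨F', ⟨tw_sat hT h.sat, tw_nm hT h.nm fun δ hδ => ?_, fun y => ?_, ?_⟩, fun r => r.of_iso hT,
    fun γ => ?_⟩
  · obtain ⟨r, hr, e | e⟩ := ad_cases h.hd hδ
    · rw [e, th_dl hr.1 (hc r hr), mul_inv_cancel_right]; exact dl_mem_Dg _ _
    · rw [e, ← mul_assoc, th_dd, mul_assoc dd, th_dl hr.1 (hc r hr), ← mul_assoc, mul_inv_cancel_right]
      exact mul_mem dd_mem_Dg (dl_mem_Dg _ _)
  · simpa using (hT.mem_XF (t := 1) fun v => by apply UG.ext4 <;> simp [th_apply, thf]).2 (h.hl y)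
  · simpa [th_dd] using hT.mem_AF.2 h.hd
  · change jt γ ∈ YE F' ↔ jt (γ + c) ∈ YE F
    rw [← ug_jt c γ]
    exact tw_YE hT fun g _ => by simp [th_apply, thf]

theorem tw_ze (h : Std F) :
    ∃ F' : FS K9, Std F' ∧ (Rz 3 F' → Rz 3 F) ∧ ∀ γ, ii * γ ∈ TT F' ↔ γ ∈ TT F := by
  have h0 : ze ≠ 0 := by decide +kernel
  obtain ⟨F', hT⟩ := exists_tw F (dl ze false)
  have hd : dd ∈ AF F' := by
    have e : dl ze false * dd = dd * dl ze false := MulEquiv.ext fun g => by
      rw [MulAut.mul_apply, MulAut.mul_apply, dd_apply, dd_apply, dl_apply h0, dl_apply h0]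
      apply UG.ext4 <;> simp [df, ddf] <;> ring
    simpa [e] using hT.mem_AF.2 h.hd
  refine ⟨F', ⟨tw_sat hT h.sat, tw_nm hT h.nm fun δ hδ =>
    mul_mem (mul_mem (dl_mem_Dg _ _) hδ.2) (inv_mem (dl_mem_Dg _ _)), fun y => ?_, hd⟩, fun r => r.of_iso hT,
    fun γ => ?_⟩
  · have := (hT.mem_XF (t := tz) fun v => by
      rw [dl_apply h0]; apply UG.ext4 <;> simp [df, tz, nn_ze]).2 (h.hl ((-ze)⁻¹ * y))
    rwa [tz_ll, mul_inv_cancel_right, mul_inv_cancel_left₀ (neg_ne_zero.2 h0)] at this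
  · change jt (act ze false γ) ∈ YE F' ↔ jt γ ∈ YE F
    rw [← tw_YE hT (k := dm ze false) fun g _ => by rw [dl_apply h0, dm_apply h0]; rfl]
    rcases Tab.c4 ze false γ h0 with e | e <;> rw [e]
    exact mul_mem_cancel_left (YF_le_YE F' (ng_mem hd))

end Cfsg.Agent.U4X
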