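import Mathlib
import Cfsg.Agent.U4X.TwB
import Cfsg.Agent.U4X.TV
import Cfsg.Agent.U4F.Tor
import Cfsg.Agent.U4F.VStd

/-!
# Standard position on V
-/

set_option autoImplicit false
set_option linter.unusedSectionVars false
set_option linter.unusedVariables false

namespace Cfsg.Agent.U4X

open Cfsg Cfsg.FusionSystem Cfsg.Agent.Fus Subgroup Cfsg.Agent.U4F Cfsg.Agent.Cl

/-- An element of `N(P)` in a group that contains the opposite root group. -/
theorem vs_a {F : FS K9} (hF : F.IsSaturated 3) (hL : HasL F) {g : GA (Hm K9)} (hg : g ∈ XF F) {v : Hm K9}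
    (e : g ⟨0, 0, 1, by simp, by simp⟩ = v) (hb : v.b = 0) (hc : v.c ≠ 0) : v.a = 0 := by
  have hq : 2 < qq K9 := by rw [qq_K9]; norm_num
  have hw : ∃ w, w ∈ XF F ∧ w ∉ normalizer (PP K9 : Set (GA (Hm K9))) ∧
      ∀ v, (w v).a = v.c ∧ (w v).b = -star v.b ∧ (w v).c = v.a :=
    ⟨wv K9, mul_mem (mul_mem (uu_mem_X F 1) (hL _)) (uu_mem_X F 1), wv_not_mem K9, wv_apply⟩
  obtain ⟨w, w1, w2, w3⟩ := hw
  have h0 : (⟨1, 0, 0, by simp, by simp⟩ : Hm K9) ∈ fixA (PP K9) := mem_fix_PP.2 ⟨rfl, rfl⟩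
  have h1 : (g * w) ⟨1, 0, 0, by simp, by simp⟩ = v := by
    rw [ga_mul, ← e]
    congr 1
    ext
    · exact (w3 _).1
    · rw [(w3 _).2.1]; simp
    · exact (w3 _).2.2
  rcases (ch_PP (syl_X hF) (ti_X hF hq)).two w1 w2 _ (mul_mem hg w1) with h | ⟨_, ⟨t, rfl⟩, h⟩
  · exact (hc (mem_fix_PP.1 (h1 ▸ VStd.fix_norm h h0)).2).elim
  · obtain ⟨a1, a2⟩ := mem_fix_PP.1 (VStd.fix_norm h h0)
    rw [ga_mul, h1] at a1 a2
    have a3 := ga_apply_inv (uu t * w) v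
    generalize (uu t * w)⁻¹ v = u at a1 a2 a3
    obtain ⟨b1, b2, b3⟩ := w3 u
    rw [ga_mul] at a3
    have c1 := congrArg Hm.a a3
    have c2 := congrArg Hm.b a3
    have c3 := congrArg Hm.c a3
    simp only [uu_a, uu_b, uu_c, b1, b2, b3, a1, a2, hb, star_zero, neg_zero, zero_mul, zero_add] at c1 c2 c3
    rw [← c1, mul_comm t, mul_assoc, c2, mul_zero]

theorem exists_std {F : FS K9} (hF : F.IsSaturated 3) (hc : F.core = ⊥) :
    ∃ F' : FS K9, Std F' ∧ F'.core = ⊥ ∧ (Rz 3 F' → Rz 3 F) := by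
  have hq : 2 < qq K9 := by rw [qq_K9]; norm_num
  obtain ⟨κ, F₁, hT, hN⟩ := exists_norm hF
  have h1 : F₁.IsSaturated 3 := tw_sat hT hF
  have hc1 := hT.core_eq_bot hc
  obtain ⟨k, hk, hl⟩ := ll_mem_prime (syl_X h1) (ti_X h1 hq) (nn_X h1 (ess_V h1 hc1 hq)) fun t ht => by
    rcases fix_cases ht with rfl | rfl | rfl
    exacts [⟨0, by simp⟩, ⟨1, by simp⟩, ⟨2, by push_cast; linear_combination -three_eq⟩]
  obtain ⟨F', hT'⟩ := exists_tw F₁ (thA k hk)
  have h2 : F'.IsSaturated 3 := tw_sat hT' h1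
  have hL : HasL F' := fun y => by
    have := (hT'.mem_XF (thA_jv k hk)).2 (hl y)
    rwa [show thV k hk * ((thV k hk)⁻¹ * ll y * thV k hk) * (thV k hk)⁻¹ = ll y by group] at this
  have hN' : Nm F' := tw_nm hT' hN fun δ hδ => by
    obtain ⟨l, m, s, hD⟩ := mem_Dg.1 hδ.2
    have sk : s k = k := by rcases fix_cases hk with rfl | rfl | rfl <;> simp
    have ex : ∀ g, ((thA k hk * δ * (thA k hk)⁻¹) g).x = l * s g.x := fun g => hD.x _
    have ec : ∀ g, ((thA k hk * δ * (thA k hk)⁻¹) g).v.c = m * s g.v.c := fun g => hD.c _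
    have eb : ∀ g, ((thA k hk * δ * (thA k hk)⁻¹) g).v.b = l * m * s g.v.b := fun g => hD.b _
    have ea : ∀ g, ((thA k hk * δ * (thA k hk)⁻¹) g).v.a =
        l * star l * m * s g.v.a + (k * m - l * star l * m * k) * s g.v.c := fun g => by
      change (δ ((thA k hk)⁻¹ g)).v.a + k * (δ ((thA k hk)⁻¹ g)).v.c = _
      rw [hD.a, hD.c]
      change l * star l * m * s (g.v.a - k * g.v.c) + k * (m * s g.v.c) = _
      rw [map_sub, map_mul, sk]
      ring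
    obtain ⟨g, hg, -, e⟩ := res_X (hT'.mem_AF.2 hδ.1)
    have e' := congrArg UG.v (e ⟨0, 0, 1, by simp, by simp⟩)
    rw [jv_v] at e'
    have h3 := vs_a h2 hL hg e'.symm (by rw [eb]; simp) (by rw [ec]; simpa using hD.hm)
    rw [ea] at h3
    simp only [jv_v, map_zero, mul_zero, map_one, mul_one, zero_add] at h3
    exact mem_Dg.2 ⟨l, m, s, hD.hl, hD.hm, hD.sm, ex, ec, eb, fun g => by rw [ea, h3, zero_mul, add_zero]⟩
  obtain ⟨δ, hδ, hD⟩ := tor_t1 h2 hN' hL ze (by decide +kernel)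
  rw [show ze * star ze = -1 from nn_ze, inv_neg, inv_one] at hD
  exact ⟨F', ⟨h2, hN', hL, hD.ext isD_dd ▸ hδ.1⟩, hT'.core_eq_bot hc1, fun h => (h.of_iso hT').of_iso hT⟩

end Cfsg.Agent.U4X
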