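import Mathlib
import Cfsg.Agent.U4X.Five
import Cfsg.Agent.U4X.Gen
import Cfsg.Agent.U4X.Root
import Cfsg.Agent.U4X.Tw
import Cfsg.Agent.U4X.VS

/-!
# The case `q = 3`
-/

set_option autoImplicit false
set_option linter.unusedSectionVars false
set_option linter.unusedVariables false

namespace Cfsg.Agent.U4X

open Cfsg Cfsg.FusionSystem Cfsg.Agent.Fus Subgroup Cfsg.Agent.U4F Cfsg.Agent.Cl

variable {F : FS K9}

theorem rz_A (h : Std F) (hT : TT F = {ze, -ze}) : Rz 3 F :=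
  rz_of_has h (by rcases db_A h hT with e | e <;> rw [e, hT]; exacts [has1, has2])

theorem rz_D (h : Std F) (hT : TT F = {0, 1, -1}) : Rz 3 F :=
  rz_of_has h (by rcases db_D h hT with e | e <;> rw [e, hT]; exacts [has3, has4])

theorem rz_ze (h : Std F) {T : Set K9} (k : ∀ F' : FS K9, Std F' → TT F' = T → Rz 3 F')
    (e : ∀ γ, γ ∈ TT F ↔ ii * γ ∈ T) : Rz 3 F := by
  obtain ⟨F', h1, h2, h3⟩ := tw_ze h
  refine h2 (k F' h1 (Set.ext fun x => ?_))
  rw [show x = ii * -(ii * x) by linear_combination x * ii_ii, h3, e]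

theorem rz_std (h : Std F) (hc : F.core = ⊥) : Rz 3 F := by
  rcases tt_cases h (tt_nonempty h.sat h.hd (ess_Q h.sat hc)) with ⟨γ, e⟩ | ⟨γ, γ', h1, e⟩ | e | e | e
  · obtain ⟨F', h1, h2, h3⟩ := tw_th h (c := γ) fun r hr =>
      Set.mem_singleton_iff.1 (e ▸ t4 (l := r.1) (e := r.2) h (e ▸ Set.mem_singleton γ) hr)
    refine h2 (rz_of_has h1 ?_)
    rw [show TT F' = {0} from Set.ext fun x => by simp [h3, e]]
    exact has_gen h1
  · obtain ⟨F', h2, h3, h4⟩ := tw_th h (c := -γ - γ') fun r hr => by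
      have a := t4 (l := r.1) (e := r.2) h (show γ ∈ TT F by simp [e]) hr
      have b := t4 (l := r.1) (e := r.2) h (show γ' ∈ TT F by simp [e]) hr
      rw [e] at a b
      exact (by decide +kernel : ∀ γ γ' : K9, nn (γ - γ') = -1 → ∀ r : K9 × Bool, r.1 ≠ 0 →
        act r.1 r.2 γ = γ ∨ act r.1 r.2 γ = γ' → act r.1 r.2 γ' = γ ∨ act r.1 r.2 γ' = γ' →
        act r.1 r.2 (-γ - γ') = -γ - γ') γ γ' h1 r hr.1 a b
    refine h3 ?_
    simp only [e, Set.mem_insert_iff, Set.mem_singleton_iff] at h4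
    rcases (by decide +kernel : ∀ γ γ' : K9, nn (γ - γ') = -1 →
      (∀ x, x + (-γ - γ') = γ ∨ x + (-γ - γ') = γ' ↔ x = ze ∨ x = -ze) ∨
      ∀ x, x + (-γ - γ') = γ ∨ x + (-γ - γ') = γ' ↔ ii * x = ze ∨ ii * x = -ze) γ γ' h1 with k | k
    · exact rz_A h2 (Set.ext fun x => (h4 x).trans (k x))
    · exact rz_ze h2 (fun _ => rz_A) fun x => (h4 x).trans (k x)
  · exact rz_D h e
  · refine rz_ze h (fun _ => rz_D) fun x => ?_
    rw [e]
    exact (by decide +kernel : ∀ x : K9, x = 0 ∨ x = ii ∨ x = -ii ↔ ii * x = 0 ∨ ii * x = 1 ∨ ii * x = -1) x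
  · exact rz_of_has h (by rw [db_E h e, e]; exact has5)

theorem rz_K9 (F : FS K9) (hF : F.IsSaturated 3) (hc : F.core = ⊥) : Rz 3 F := by
  obtain ⟨F', h1, h2, h3⟩ := exists_std hF hc
  exact h3 (rz_std h1 h2)

end Cfsg.Agent.U4X

namespace Cfsg.Agent.U4F

open Cfsg Cfsg.FusionSystem Cfsg.Agent.Fus Subgroup

variable {K : Type*} [Field K] [StarRing K] [UF K] {p : ℕ} [Fact p.Prime] [CharP K p]

theorem rz3 (h : qq K = 3) (F : FS K) (hF : F.IsSaturated p) (hc : F.core = ⊥) : Rz p F := by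
  obtain ⟨n, e⟩ := qq_pow K p
  obtain rfl : p = 3 := (Nat.prime_dvd_prime_iff_eq Fact.out Nat.prime_three).1
    (by rw [← h, e]; exact dvd_pow_self p n.succ_ne_zero)
  obtain ⟨φ⟩ := Cl.nonempty_ringEquiv_GF9' K (by rw [card_K, h]; norm_num)
  exact rz_of_ringEquiv φ U4X.rz_K9 F hF hc

end Cfsg.Agent.U4F
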