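import Mathlib
import Cfsg.Agent.U4X.YE
import Cfsg.Agent.U4F.XB
import Cfsg.Agent.U4F.Real
import Cfsg.Agent.Fus.InvGroup
import Cfsg.Agent.GT.PGroupChain

/-!
# Embeddings of S given by letters
-/

set_option autoImplicit false
set_option linter.unusedSectionVars false
set_option linter.unusedVariables false

namespace Cfsg.Agent.U4X

open Cfsg Cfsg.FusionSystem Cfsg.Agent.Fus Subgroup Cfsg.Agent.U4F Cfsg.Agent.Cl

section Aux

variable {G : Type*} [Group G] {s : ℕ → G}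

theorem lift_rep (s : ℕ → G) (n k : ℕ) : Spor.evalW s (List.replicate n k) = s k ^ n := by
  simp [Spor.evalW]

/-- The value of a field element on two letters. -/
def liftP (p q : G) (b : K9) : G := p ^ (b.code % 3) * q ^ (b.code / 3)

/-- The value of a vector. -/
def liftV (s : ℕ → G) (v : Hm K9) : G := s 0 ^ v.a.code * liftP (s 1) (s 2) v.b * s 3 ^ v.c.code

theorem lift_eval (s : ℕ → G) (g : UG K9) :
    Spor.evalW s (word g) = liftV s g.v * liftP (s 4) (s 5) g.x := by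
  simp only [word, Spor.evalW_append, lift_rep, liftV, liftP, mul_assoc]

theorem liftP_zero (p q : G) : liftP p q 0 = 1 := by simp [liftP, TF.code_zero]

theorem liftV_zero (s : ℕ → G) : liftV s 0 = 1 := by simp [liftV, liftP_zero, TF.code_zero]

theorem liftP_add {p q : G} (hc : Commute q p) (hp : p ^ 3 = 1) (hq : q ^ 3 = 1) (b b' : K9) :
    liftP p q (b + b') = liftP p q b * liftP p q b' := by
  have h : ∀ b b' : K9, (b + b').code % 3 = (b.code % 3 + b'.code % 3) % 3 ∧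
      (b + b').code / 3 = (b.code / 3 + b'.code / 3) % 3 := by decide +kernel
  rw [liftP, (h b b').1, (h b b').2, ← pow_eq_pow_mod _ hp, ← pow_eq_pow_mod _ hq, pow_add, pow_add, liftP, liftP]
  exact (hc.pow_pow _ _).symm.mul_mul_mul_comm _ _

theorem lift_pow_add {p : G} (hp : p ^ 3 = 1) {a a' : K9} (h : star a = a) (h' : star a' = a') :
    p ^ (a + a').code = p ^ a.code * p ^ a'.code := by
  have e : ∀ a a' : K9, star a = a → star a' = a' → (a + a').code = (a.code + a'.code) % 3 := by decide +kernel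
  rw [e a a' h h', ← pow_eq_pow_mod _ hp, pow_add]

theorem lift_sx_pow (x : K9) (n : ℕ) : sx x ^ n = sx (n * x) := by
  induction n with
  | zero => apply UG.ext4 <;> simp
  | succ n ih => rw [pow_succ, ih]; apply UG.ext4 <;> simp [add_mul]

theorem lift_gen0 : gen 0 = jv ⟨1, 0, 0, by simp, by simp⟩ := rfl
theorem lift_gen1 : gen 1 = jv ⟨0, 1, 0, by simp, by simp⟩ := rfl
theorem lift_gen2 : gen 2 = jv ⟨0, ze, 0, by simp, by simp⟩ := rfl
theorem lift_gen3 : gen 3 = jv ⟨0, 0, 1, by simp, by simp⟩ := rfl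
theorem lift_gen4 : gen 4 = sx 1 := rfl
theorem lift_gen5 : gen 5 = sx ze := rfl

theorem lift_word (g : UG K9) : Spor.evalW gen (word g) = g := by
  have h1 : ∀ a : K9, star a = a → (a.code : K9) = a := by decide +kernel
  have h2 : ∀ b : K9, ((b.code % 3 : ℕ) : K9) + ((b.code / 3 : ℕ) : K9) * ze = b := by decide +kernel
  rw [lift_eval]
  simp only [liftV, liftP, lift_gen0, lift_gen1, lift_gen2, lift_gen3, lift_gen4, lift_gen5, jv_pow, jv_mul,
    lift_sx_pow]
  apply UG.ext4 <;> simp [hm_nsmul, h1 _ g.v.ha, h1 _ g.v.hc, h2]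

theorem lift_mem_word {g : UG K9} {k : ℕ} (h : k ∈ word g) : k < 6 ∧ (g.x = 0 → k < 4) ∧ (g.v.c = 0 → k ≠ 3) := by
  simp only [word, List.mem_append, List.mem_replicate] at h
  rcases h with ((((⟨h, rfl⟩ | ⟨h, rfl⟩) | ⟨h, rfl⟩) | ⟨h, rfl⟩) | ⟨h, rfl⟩) | ⟨h, rfl⟩ <;>
    refine ⟨by omega, fun e => ?_, fun e => ?_⟩ <;>
    first | omega | (rw [e] at h; exact absurd rfl h)

theorem lift_ind {P : UG K9 → Prop} (h1 : P 1) (hm : ∀ a b, P a → P b → P (a * b)) (g : UG K9)
    (h : ∀ k < 6, (g.x = 0 → k < 4) → (g.v.c = 0 → k ≠ 3) → P (gen k)) : P g := by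
  have key : ∀ w : List ℕ, (∀ k ∈ w, P (gen k)) → P (Spor.evalW gen w) := fun w hw => by
    induction w with
    | nil => exact h1
    | cons x w ih =>
      rw [Spor.evalW_cons]
      exact hm _ _ (hw x (by simp)) (ih fun y hy => hw y (by simp [hy]))
  rw [← lift_word g]
  exact key _ fun k hk => h k (lift_mem_word hk).1 (lift_mem_word hk).2.1 (lift_mem_word hk).2.2

theorem lift_gen_V : ∀ k < 4, (gen k).x = 0 := by decide +kernel

theorem lift_gen_Q : ∀ k < 6, k ≠ 3 → (gen k).v.c = 0 := by decide +kernel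

theorem lift_word_gen : ∀ k < 6, word (gen k) = [k] := by decide +kernel

theorem lift_comm (h : Rel s) {i k : ℕ} (hk : k < i) (hi : i < 4 ∨ (i = 5 ∧ k = 4)) : Commute (s i) (s k) := by
  have e : ∀ i < 6, ∀ k < i, (i < 4 ∨ (i = 5 ∧ k = 4)) → word (gen i * gen k) = [k, i] := by decide +kernel
  have := h.mul i (by omega) k hk
  rw [e i (by omega) k hk hi] at this
  exact (commute_iff_eq _ _).2 (by simpa using this)

theorem liftV_add (h : Rel s) (v w : Hm K9) : liftV s (v + w) = liftV s v * liftV s w := by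
  have c : ∀ i k, k < i → i < 4 → ∀ m n : ℕ, Commute (s i ^ m) (s k ^ n) := fun i k hk hi m n =>
    (lift_comm h hk (.inl hi)).pow_pow m n
  have c1 : ∀ (b : K9) (n : ℕ), Commute (liftP (s 1) (s 2) b) (s 0 ^ n) := fun b n =>
    (c 1 0 (by omega) (by omega) _ _).mul_left (c 2 0 (by omega) (by omega) _ _)
  have c2 : ∀ (b : K9) (m n : ℕ), Commute (s 3 ^ m) (s 0 ^ n * liftP (s 1) (s 2) b) := fun b m n =>
    (c 3 0 (by omega) (by omega) _ _).mul_right
      ((c 3 1 (by omega) (by omega) _ _).mul_right (c 3 2 (by omega) (by omega) _ _))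
  simp only [liftV, add_a, add_b, add_c]
  rw [lift_pow_add (h.cube 0 (by omega)) v.ha w.ha, lift_pow_add (h.cube 3 (by omega)) v.hc w.hc,
    liftP_add (lift_comm h (by omega) (by omega)) (h.cube 1 (by omega)) (h.cube 2 (by omega)),
    (c2 _ _ _).mul_mul_mul_comm, (c1 _ _).mul_mul_mul_comm]

theorem lift_eval_gen (s : ℕ → G) {k : ℕ} (hk : k < 6) : liftV s (gen k).v * liftP (s 4) (s 5) (gen k).x = s k := by
  rw [← lift_eval, lift_word_gen k hk]; simp

theorem lift_act (h : Rel s) (g : UG K9) (v : Hm K9) :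
    liftP (s 4) (s 5) g.x * liftV s v = liftV s (uu g.x v) * liftP (s 4) (s 5) g.x := by
  have hP := liftP_add (lift_comm h (i := 5) (k := 4) (by omega) (by omega)) (h.cube 4 (by omega))
    (h.cube 5 (by omega))
  revert v
  refine lift_ind (P := fun g => ∀ v, liftP (s 4) (s 5) g.x * liftV s v =
    liftV s (uu g.x v) * liftP (s 4) (s 5) g.x) (fun v => ?_) (fun a b ha hb v => ?_) g fun i hi _ _ v => ?_
  · rw [one_x, liftP_zero, uu_zero, ga_one, one_mul, mul_one]
  · rw [mul_x, hP, ← uu_mul, ga_mul, mul_assoc, hb, ← mul_assoc, ha, mul_assoc]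
  · by_cases h4 : i < 4
    · rw [lift_gen_V i h4, liftP_zero, uu_zero, ga_one, one_mul, mul_one]
    have hv : (gen i).v = 0 := by
      obtain rfl | rfl : i = 4 ∨ i = 5 := by omega
      exacts [rfl, rfl]
    have e := lift_eval_gen s hi
    rw [hv, liftV_zero, one_mul] at e
    refine (lift_ind (P := fun y => y.x = 0 ∧ liftP (s 4) (s 5) (gen i).x * liftV s y.v =
      liftV s (uu (gen i).x y.v) * liftP (s 4) (s 5) (gen i).x) ⟨rfl, ?_⟩ (fun a b ha hb => ⟨?_, ?_⟩) (jv v)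
      fun k hk hk4 _ => ⟨lift_gen_V k (hk4 rfl), ?_⟩).2
    · rw [one_v, map_zero, liftV_zero, one_mul, mul_one]
    · rw [mul_x, ha.1, hb.1, add_zero]
    · rw [mul_v, ha.1, uu_zero, ga_one, map_add, liftV_add h, liftV_add h, ← mul_assoc, ha.2, mul_assoc, hb.2,
        mul_assoc]
    · have e2 := lift_eval_gen s hk
      have e3 := h.mul i hi k (by have := hk4 rfl; omega)
      rw [lift_gen_V k (hk4 rfl), liftP_zero, mul_one] at e2
      rw [lift_eval, mul_v, mul_x, hv, zero_add, lift_gen_V k (hk4 rfl), add_zero, e] at e3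
      rw [e, e2, e3]

end Aux

variable {G : Type} [Group G] {j : UG K9 →* G} {H : Subgroup G} {F : FS K9} {W : G}

theorem Rel.lift {s : ℕ → G} (h : Rel s) :
    ∃ j : UG K9 →* G, Function.Injective j ∧ ∀ g, j g = Spor.evalW s (word g) := by
  let j : UG K9 →* G := MonoidHom.mk' (fun g => Spor.evalW s (word g)) fun a b => by
    rw [lift_eval, lift_eval, lift_eval, mul_v, mul_x, liftV_add h,
      liftP_add (lift_comm h (by omega) (by omega)) (h.cube 4 (by omega)) (h.cube 5 (by omega)), mul_assoc,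
      ← mul_assoc (liftV s (uu _ _)), ← lift_act h]
    simp only [mul_assoc]
  refine ⟨j, (MonoidHom.ker_eq_bot_iff j).1 ?_, fun _ => rfl⟩
  by_contra hne
  obtain ⟨z, hz, hc, h1, -⟩ := GT.PG.exists_mem_center_of_normal (isPGroup_UG K9 3) j.ker hne
  obtain ⟨e1, e2, e3⟩ := mem_Zs_of_comm_Q (z := z) fun g _ => (mem_center_iff.1 hc g).symm
  have h0 : gen 0 ∈ j.ker := by
    rcases fix_cases z.v.ha with e | e | e
    · exact absurd (UG.ext4 e e3 e2 e1) h1
    · rwa [show gen 0 = z from UG.ext4 e.symm e3.symm e2.symm e1.symm]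
    · rw [show gen 0 = z⁻¹ by apply UG.ext4 <;> simp [lift_gen0, e, e1, e2, e3]]
      exact inv_mem hz
  have : Spor.evalW s (word (gen 0)) = 1 := h0
  rw [lift_word_gen 0 (by omega)] at this
  exact h.ne (by simpa using this)

theorem word_gen : ∀ k < 6, word (gen k) = [k] := lift_word_gen

theorem range_le (h : ∀ k < 6, j (gen k) ∈ H) : j.range ≤ H := by
  rintro _ ⟨g, rfl⟩
  exact lift_ind (P := fun g => j g ∈ H) (by simp) (fun a b ha hb => by simpa using mul_mem ha hb) g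
    fun k hk _ _ => h k hk

theorem exists_sub [Finite G] (hj : Function.Injective j) (hH : j.range ≤ H) (hc : ¬ 3 ^ 7 ∣ Nat.card H) :
    ∃ F : FS K9, F.Realizes j H ∧ Rz 3 F ∧ F.IsSaturated 3 := by
  have h1 : ∀ y ∈ j.range, j (Function.invFun j y) = y := fun y hy => Function.invFun_eq hy
  have h2 : ∀ x, Function.invFun j (j x) = x := Function.leftInverse_invFun hj
  obtain ⟨F, hF⟩ := (fusionSystemOfSubgroup H j.range hH).exists_isIsoVia (θ := Function.invFun j)
    (η := j) (S' := ⊤) (fun a ha b hb => by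
      obtain ⟨a, rfl⟩ := ha
      obtain ⟨b, rfl⟩ := hb
      rw [← map_mul, h2, h2, h2])
    (le_antisymm le_top fun x _ => h2 x ▸ mem_img_of_mem ⟨x, rfl⟩) h1
  have hR : F.Realizes j H := hF.symm.realizes realizes_ofSubgroup
  have hi : ¬ 3 ∣ j.range.relIndex H := fun ⟨m, hm⟩ => hc ⟨m, by
    rw [← (j.range.subgroupOf H).card_mul_index, Nat.card_congr (subgroupOfEquivOfLe hH).toEquiv,
      ← Nat.card_congr (MonoidHom.ofInjective hj).toEquiv, card_UG, qq_K9]
    change _ * j.range.relIndex H = _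
    rw [hm]; ring⟩
  refine ⟨F, hR, R.rz_of (j := j.codRestrict H fun x => hH ⟨x, rfl⟩)
    (hR.toSub.congr fun x _ => toSub_apply _) ?_, hR.isSaturated (isPGroup_top K9 3) ?_⟩
  · rwa [show (j.codRestrict H fun x => hH ⟨x, rfl⟩).range = j.range.subgroupOf H from
      Subgroup.ext fun y => ⟨fun ⟨x, e⟩ => ⟨x, congrArg Subtype.val e⟩, fun ⟨x, e⟩ => ⟨x, Subtype.ext e⟩⟩]
  · rwa [img_eq_map, ← MonoidHom.range_eq_map]

theorem af_of_gens (hF : F.Realizes j H) (hW : W ∈ H) (α : MulAut (UG K9))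
    (h : ∀ k < 6, W * j (gen k) = j (α (gen k)) * W) : α ∈ AF F :=
  hF.mor_iff.2 ⟨le_rfl, fun _ _ => mem_top _, W, hW, fun x _ =>
    lift_ind (P := fun x => j (α x) = W * j x * W⁻¹) (by simp)
      (fun a b ha hb => by rw [map_mul, map_mul, ha, hb, map_mul]; group) x
      fun k hk _ _ => by rw [h k hk, mul_inv_cancel_right]⟩

theorem hasL_of_gens (hF : F.Realizes j H) (hW : W ∈ H) (hd : dd ∈ AF F)
    (h : ∀ k < 4, W * j (gen k) = j (jv (ll 1 (gen k).v)) * W) : HasL F := by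
  have h1 : ll 1 ∈ XF F := mem_XF.2 (hF.mor_iff.2 ⟨le_top, fun _ _ => mem_top _, W, hW, fun x hx =>
    (lift_ind (P := fun x => x.x = 0 ∧ j (jv (ll 1 x.v)) = W * j x * W⁻¹)
      ⟨rfl, by rw [one_v, map_zero, show jv (0 : Hm K9) = 1 from rfl]; simp⟩
      (fun a b ha hb => ⟨by rw [mul_x, ha.1, hb.1, add_zero], by
        rw [mul_v, ha.1, uu_zero, ga_one, map_add, ← jv_mul, map_mul, ha.2, hb.2, map_mul]; group⟩) x
      fun k _ hk _ => ⟨lift_gen_V k (hk hx), by rw [h k (hk hx), mul_inv_cancel_right]⟩).2⟩)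
  obtain ⟨g, hg, -, e⟩ := res_X hd
  have e' : ∀ v, g v = (ddf (jv v)).v := fun v => by rw [← dd_apply, e]; rfl
  have h2 : ll ii ∈ XF F := by
    have : ll ii = g * ll 1 * g⁻¹ := eq_mul_inv_of_mul_eq (LinearEquiv.ext fun v => by
      rw [ga_mul, ga_mul, e', e']
      ext <;> simp [ddf, star_ii]
      · ring
      · linear_combination (v.b + star v.b + v.a) * ii_ii)
    rw [this]
    exact mul_mem (mul_mem hg h1) (inv_mem hg)
  have h3 : ∀ (n : ℕ) (y : K9), ll y ∈ XF F → ll (n • y) ∈ XF F := fun n y hy => by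
    induction n with
    | zero => rw [zero_nsmul, ll_zero]; exact one_mem _
    | succ n ih => rw [succ_nsmul, ← ll_mul]; exact mul_mem ih hy
  have h4 : ∀ y : K9, ∃ a b : Fin 3, y = a.1 • (1 : K9) + b.1 • ii := by decide +kernel
  intro y
  obtain ⟨a, b, rfl⟩ := h4 y
  rw [← ll_mul]
  exact mul_mem (h3 _ _ h1) (h3 _ _ h2)

theorem ye_of_gens (hF : F.Realizes j H) (hW : W ∈ H) (M : GA M9) (q : ℕ → UG K9)
    (h : ∀ k < 6, k ≠ 3 → q k ∈ Qs K9 ∧ ((q k).x, (q k).v.b) = M ((gen k).x, (gen k).v.b) ∧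
      W * j (gen k) = j (q k) * W) : M ∈ YE F := by
  have key : ∀ x ∈ Qs K9, ∃ y ∈ Qs K9, j y = W * j x * W⁻¹ ∧ (y.x, y.v.b) = M (x.x, x.v.b) := fun x hx =>
    (lift_ind (P := fun x => x ∈ Qs K9 ∧ ∃ y ∈ Qs K9, j y = W * j x * W⁻¹ ∧ (y.x, y.v.b) = M (x.x, x.v.b))
      ⟨one_mem _, 1, one_mem _, by simp, (map_zero M).symm⟩
      (fun a b ⟨ha, y, hy, e1, e2⟩ ⟨hb, y', hy', e1', e2'⟩ => ⟨mul_mem ha hb, y * y', mul_mem hy hy', by
        rw [map_mul, map_mul, e1, e1']; group, by rw [yb_mul hy', yb_mul hb, map_add, e2, e2']⟩) x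
      fun k hk _ h3 => ⟨lift_gen_Q k hk (h3 hx), q k, (h k hk (h3 hx)).1, by
        rw [(h k hk (h3 hx)).2.2, mul_inv_cancel_right], (h k hk (h3 hx)).2.1⟩).2
  choose! f hf e1 e2 using key
  exact subset_closure ⟨f, (hF.mor_iff.2 ⟨le_top, fun _ _ => mem_top _, W, hW, e1⟩).iso_self hf, e2⟩

theorem ncard_PB_le [Finite G] (hF : F.Realizes j H) {n : ℕ}
    (h : Nat.card (H ⊓ (normalizer (j.range : Set G) ⊓ centralizer {j (gen 0)}) : Subgroup G) ≤ 729 * n) :
    (PB F).ncard ≤ n := by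
  set N : Subgroup G := H ⊓ (normalizer (j.range : Set G) ⊓ centralizer {j (gen 0)})
  have hj : Function.Injective j := fun a b e => hF.inj a (mem_top a) b (mem_top b) e
  have hz : gen 0 ∈ Zs K9 := ⟨rfl, rfl, rfl⟩
  have key : ∀ r : PB F, ∃ g ∈ N, ∃ α : UG K9 → UG K9, (∀ x, j (α x) = g * j x * g⁻¹) ∧
      ∀ x, (α x).x = r.1.1 * sg r.1.2 x.x := by
    rintro ⟨r, α, hα, h1, h2⟩
    obtain ⟨g, hg, e⟩ := hF.exists_conj hα
    refine ⟨g, ⟨hg, mem_normalizer_fintype ?_, mem_centralizer_iff.2 ?_⟩, α, fun x => e x (mem_top x), h2⟩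
    · rintro _ ⟨x, rfl⟩
      exact ⟨α x, e x (mem_top x)⟩
    · rintro _ rfl
      have := e _ (mem_top (gen 0))
      rw [h1 _ hz] at this
      exact eq_mul_inv_iff_mul_eq.1 this
  choose g hg α e1 e2 using key
  have hN : ∀ x, j x ∈ N := fun x => ⟨hF.mem x (mem_top x), le_normalizer ⟨x, rfl⟩, mem_centralizer_iff.2 (by
    rintro _ rfl
    rw [← map_mul, ← map_mul, Zs_comm hz])⟩
  have h0 : ∀ (l l' : K9) (e e' : Bool), l ≠ 0 → l * sg e 1 = l' * sg e' 1 → l * sg e ii = l' * sg e' ii →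
      l = l' ∧ e = e' := by decide +kernel
  have hi : Function.Injective fun t : PB F × UG K9 => (⟨g t.1 * j t.2, mul_mem (hg _) (hN _)⟩ : N) := by
    rintro ⟨r, s⟩ ⟨r', s'⟩ e
    have e : g r * j s = g r' * j s' := congrArg Subtype.val e
    have e3 : ∀ x : K9, r.1.1 * sg r.1.2 x = r'.1.1 * sg r'.1.2 x := fun x => by
      have : α r (s * sx x * s⁻¹) = α r' (s' * sx x * s'⁻¹) := hj (by
        rw [e1, e1]
        simp only [map_mul, map_inv]
        calc _ = g r * j s * j (sx x) * (g r * j s)⁻¹ := by group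
          _ = _ := by rw [e]; group)
      have := congrArg UG.x this
      rwa [e2, e2, conj_eq, conj_eq] at this
    obtain ⟨h1, h2⟩ := h0 _ _ _ _ (pb_ne (F := F) (l := r.1.1) (e := r.1.2) r.2) (e3 1) (e3 ii)
    obtain rfl : r = r' := Subtype.ext (Prod.ext h1 h2)
    rw [hj (mul_left_cancel e)]
  have := (Nat.card_le_card_of_injective _ hi).trans h
  rw [Nat.card_prod, card_UG, qq_K9, Nat.card_coe_set_eq] at this
  omega

theorem std_of_le (hF : F.IsSaturated 3) (hL : HasL F) (hd : dd ∈ AF F) {B : Finset (K9 × Bool)}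
    (h1 : ↑B ⊆ DB F) (h2 : (PB F).ncard ≤ B.card) : Std F ∧ DB F = ↑B := by
  have e : (B : Set (K9 × Bool)) = PB F := Set.eq_of_subset_of_ncard_le (h1.trans (db_subset_pb F))
    (by rwa [Set.ncard_coe_finset])
  exact ⟨⟨hF, nm_of_pb hF hd (e ▸ h1), hL, hd⟩, ((db_subset_pb F).trans e.ge).antisymm h1⟩

end Cfsg.Agent.U4X
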